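import Mathlib
import Cfsg.Agent.Classical.Semisimple.PrimeOrder

/-!
Orbits of eigenvalues of symplectic matrices of order prime to the characteristic.
-/

set_option autoImplicit false

namespace CfsgLib.Spec53

open Polynomial

/-- The orbit of an element of order `d` in a set closed under inversion and `x ↦ x ^ q`. -/
theorem orbit_card_bound {L : Type*} [Field L] [DecidableEq L] (S : Finset L) {q d : ℕ}
    (hinv : ∀ x ∈ S, x⁻¹ ∈ S) (hq : ∀ x ∈ S, x ^ q ∈ S) {x : L} (hx : x ∈ S)
    (hd : orderOf x = d) (hd0 : 0 < d) (hqd : q.Coprime d) :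
    2 * orderOf (q : ZMod d) ≤ S.card ∨
      (orderOf (q : ZMod d) ≤ S.card ∧ ∃ i, (q : ZMod d) ^ i = -1) := by
  haveI : NeZero d := ⟨hd0.ne'⟩
  set m := orderOf (q : ZMod d) with hm
  have hx0 : x ≠ 0 := by
    rintro rfl
    rw [orderOf_zero] at hd
    omega
  set u := Units.mk0 x hx0 with hu
  have hud : orderOf u = d := by rw [← hd, ← orderOf_units]; rfl
  have hmem : ∀ i, x ^ (q ^ i) ∈ S := by
    intro i
    induction i with
    | zero => simpa using hx
    | succ i ih => rw [pow_succ, pow_mul]; exact hq _ ih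
  set A := (Finset.range m).image fun i => x ^ (q ^ i) with hA
  have hAS : A ⊆ S := fun y hy => by
    obtain ⟨i, -, rfl⟩ := Finset.mem_image.1 hy
    exact hmem i
  have hAcard : A.card = m := by
    rw [hA, Finset.card_image_of_injOn, Finset.card_range]
    intro i hi j hj hij
    rw [Finset.coe_range] at hi hj
    refine pow_injOn_Iio_orderOf hi hj ?_
    have h1 : u ^ (q ^ i) = u ^ (q ^ j) := Units.ext (by simpa [hu] using hij)
    rw [pow_eq_pow_iff_modEq, hud, ← ZMod.natCast_eq_natCast_iff] at h1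
    simpa using h1
  by_cases hdis : Disjoint A (A.image (·⁻¹))
  · left
    have h1 : A.image (·⁻¹) ⊆ S := fun y hy => by
      obtain ⟨z, hz, rfl⟩ := Finset.mem_image.1 hy
      exact hinv _ (hAS hz)
    have := Finset.card_le_card (Finset.union_subset hAS h1)
    rw [Finset.card_union_of_disjoint hdis, Finset.card_image_of_injective _ inv_injective,
      hAcard] at this
    omega
  · right
    refine ⟨hAcard ▸ Finset.card_le_card hAS, ?_⟩
    obtain ⟨y, hy, hy'⟩ := Finset.not_disjoint_iff.1 hdis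
    obtain ⟨z, hz, hzy⟩ := Finset.mem_image.1 hy'
    obtain ⟨i, -, rfl⟩ := Finset.mem_image.1 hy
    obtain ⟨j, hj, rfl⟩ := Finset.mem_image.1 hz
    have hjm : j < m := Finset.mem_range.1 hj
    have h1 : x ^ (q ^ i + q ^ j) = 1 := by
      rw [pow_add, ← hzy, inv_mul_cancel₀ (pow_ne_zero _ hx0)]
    rw [← orderOf_dvd_iff_pow_eq_one, hd, ← ZMod.natCast_eq_zero_iff] at h1
    push_cast at h1
    refine ⟨i + (m - j), ?_⟩
    rw [pow_add, eq_neg_of_add_eq_zero_left h1, neg_mul, ← pow_add,
      show j + (m - j) = m by omega, hm, pow_orderOf_eq_one]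

/-- For an odd prime, `-1` is a power of `q` only if `q` has even order. -/
theorem even_orderOf_of_pow_eq_neg_one {r q : ℕ} [Fact r.Prime] (hr2 : r ≠ 2) {i : ℕ}
    (h : (q : ZMod r) ^ i = -1) :
    Even (orderOf (q : ZMod r)) ∧ ∃ a, Odd a ∧ 2 * i = orderOf (q : ZMod r) * a := by
  set k := orderOf (q : ZMod r) with hk
  have hne : (-1 : ZMod r) ≠ 1 := by
    intro h1
    have h2 : ((2 : ℕ) : ZMod r) = 0 := by push_cast; linear_combination -h1
    rw [ZMod.natCast_eq_zero_iff] at h2
    exact hr2 ((Nat.prime_dvd_prime_iff_eq Fact.out Nat.prime_two).1 h2)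
  have h2i : k ∣ 2 * i := orderOf_dvd_of_pow_eq_one (by rw [mul_comm, pow_mul, h, neg_one_sq])
  have hi : ¬ k ∣ i := fun hd => hne (by rw [← h, orderOf_dvd_iff_pow_eq_one.1 hd])
  obtain ⟨a, ha⟩ := h2i
  have hao : Odd a := by
    rcases Nat.even_or_odd a with ⟨b, rfl⟩ | h'
    · exact absurd ⟨b, by linarith⟩ hi
    · exact h'
  refine ⟨?_, a, hao, ha⟩
  have h2 : Even (k * a) := ⟨i, by omega⟩
  rcases Nat.even_mul.1 h2 with h' | h'
  · exact h'
  · exact absurd h' (Nat.not_even_iff_odd.2 hao)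

/-- An element of odd prime order contributes at least `2 η` eigenvalues. -/
theorem prime_orbit_bound {L : Type*} [Field L] [DecidableEq L] (S : Finset L) {q r k η : ℕ}
    [Fact r.Prime] (hr2 : r ≠ 2) (hinv : ∀ x ∈ S, x⁻¹ ∈ S) (hq : ∀ x ∈ S, x ^ q ∈ S) {x : L}
    (hx : x ∈ S) (hd : orderOf x = r) (hqd : q.Coprime r) (hk : k = orderOf (q : ZMod r))
    (hη : (Odd k ∧ η = k) ∨ (Even k ∧ 2 * η = k)) : 2 * η ≤ S.card := by
  rcases orbit_card_bound S hinv hq hx hd (Fact.out : r.Prime).pos hqd with h | ⟨h, i, hi⟩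
  · rcases hη with ⟨-, h'⟩ | ⟨-, h'⟩ <;> omega
  · have h1 := (even_orderOf_of_pow_eq_neg_one hr2 hi).1
    rw [← hk] at h1
    rcases hη with ⟨h', -⟩ | ⟨-, h'⟩
    · exact absurd h1 (Nat.not_even_iff_odd.2 h')
    · omega

variable {F : Type*} [Field F] [Fintype F] {n : ℕ}

/-- The eigenvalues of a symplectic matrix with `g ^ N = 1`, `N` prime to the characteristic. -/
theorem exists_eigen_finset (g : Matrix.symplecticGroup (Fin n) F) {N : ℕ} (hN : (N : F) ≠ 0)
    (hg : g ^ N = 1) :
    ∃ S : Finset (AlgebraicClosure F), S.card ≤ 2 * n ∧ (∀ x ∈ S, x⁻¹ ∈ S) ∧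
      (∀ x ∈ S, x ^ Fintype.card F ∈ S) ∧ (∀ x ∈ S, x ^ N = 1) ∧
      (∀ m, g ^ m ≠ 1 → ∃ x ∈ S, x ^ m ≠ 1) ∧
      ∀ x ∈ S, ((g : Matrix (Fin n ⊕ Fin n) (Fin n ⊕ Fin n) F).map
        (algebraMap F (AlgebraicClosure F))).charpoly.IsRoot x := by
  classical
  set f := algebraMap F (AlgebraicClosure F) with hf
  set A := (g : Matrix (Fin n ⊕ Fin n) (Fin n ⊕ Fin n) F).map f with hA
  have hP0 : A.charpoly ≠ 0 := (Matrix.charpoly_monic A).ne_zero
  have hAN : A ^ N = 1 := by
    rw [hA, ← RingHom.mapMatrix_apply, ← map_pow, ← SubmonoidClass.coe_pow, hg]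
    exact map_one _
  have hmin : minpoly (AlgebraicClosure F) A ∣ X ^ N - 1 :=
    minpoly.dvd _ _ (by simp [hAN])
  have hN0 : N ≠ 0 := by
    rintro rfl
    exact hN Nat.cast_zero
  refine ⟨A.charpoly.roots.toFinset, ?_, fun x hx => ?_, fun x hx => ?_, fun x hx => ?_,
    fun m hm => ?_, fun x hx => (mem_roots hP0).1 (Multiset.mem_toFinset.1 hx)⟩
  · refine (Multiset.toFinset_card_le _).trans ((card_roots' _).trans ?_)
    rw [Matrix.charpoly_natDegree_eq_dim, Fintype.card_sum, Fintype.card_fin]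
    omega
  · rw [Multiset.mem_toFinset, mem_roots hP0, IsRoot, Matrix.eval_charpoly] at hx ⊢
    set B := (Matrix.J (Fin n) F).map f with hB
    have hgJ : A * B * A.transpose = B := by
      rw [hA, hB, ← Matrix.transpose_map, ← RingHom.mapMatrix_apply, ← RingHom.mapMatrix_apply,
        ← RingHom.mapMatrix_apply, ← map_mul, ← map_mul, SymplecticGroup.mem_iff.1 g.2]
    have hdetA : A.det ≠ 0 := by
      intro h0
      have := congrArg Matrix.det hAN
      rw [Matrix.det_pow, h0, zero_pow hN0, Matrix.det_one] at this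
      exact zero_ne_one this
    have hdetB : B.det ≠ 0 := by
      rw [hB, ← RingHom.mapMatrix_apply, ← RingHom.map_det]
      exact (map_ne_zero f).2 (Matrix.isUnit_det_J (Fin n) F).ne_zero
    rcases eq_or_ne x 0 with rfl | hx0
    · simpa using hx
    set sc := Matrix.scalar (Fin n ⊕ Fin n) (α := AlgebraicClosure F)
    have hcomm : ∀ (c : AlgebraicClosure F) (M : Matrix (Fin n ⊕ Fin n) (Fin n ⊕ Fin n)
        (AlgebraicClosure F)), sc c * M = M * sc c := fun c M =>
      (Matrix.scalar_commute c (fun _ => Commute.all _ _) M).eq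
    have key : (sc x⁻¹ - A) * B * A.transpose = -(sc x⁻¹) * B * (sc x - A.transpose) := by
      have e1 : sc x⁻¹ * B * sc x = B := by
        rw [mul_assoc, ← hcomm x B, ← mul_assoc, ← map_mul, inv_mul_cancel₀ hx0, map_one, one_mul]
      calc (sc x⁻¹ - A) * B * A.transpose = sc x⁻¹ * B * A.transpose - B := by
            rw [sub_mul, sub_mul, hgJ]
        _ = -(sc x⁻¹) * B * (sc x - A.transpose) := by
            rw [mul_sub, neg_mul, neg_mul, neg_mul, e1]; abel
    have h2 := congrArg Matrix.det key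
    have h3 : (sc x - A.transpose).det = 0 := by
      rw [← Matrix.det_transpose, Matrix.transpose_sub, Matrix.transpose_transpose]
      simpa [sc] using hx
    rw [Matrix.det_mul, Matrix.det_mul, Matrix.det_mul, Matrix.det_transpose, h3, mul_zero] at h2
    exact ((mul_eq_zero.1 h2).resolve_right hdetA |> mul_eq_zero.1).resolve_right hdetB
  · rw [Multiset.mem_toFinset, mem_roots hP0, IsRoot] at hx ⊢
    obtain ⟨p, hp⟩ := CharP.exists F
    haveI := hp
    obtain ⟨e, hprime, he⟩ := FiniteField.card F p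
    haveI : Fact p.Prime := ⟨hprime⟩
    set σ := iterateFrobenius (AlgebraicClosure F) p e
    have hσ : ∀ y, σ y = y ^ Fintype.card F := fun y => by rw [iterateFrobenius_def, he]
    have hfix : A.map σ = A := by
      ext i j
      simp only [hA, Matrix.map_apply]
      rw [hσ, ← map_pow, FiniteField.pow_card]
    rw [← hσ, ← hfix, Matrix.charpoly_map, eval_map, eval₂_at_apply, hx, map_zero]
  · rw [Multiset.mem_toFinset, mem_roots hP0, IsRoot, Matrix.eval_charpoly] at hx
    obtain ⟨v, hv0, hv⟩ := Matrix.exists_mulVec_eq_zero_iff.2 hx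
    rw [Matrix.sub_mulVec, sub_eq_zero, Matrix.scalar_apply, ← Matrix.smul_one_eq_diagonal, Matrix.smul_mulVec, Matrix.one_mulVec] at hv
    have hk : ∀ k : ℕ, (A ^ k).mulVec v = x ^ k • v := by
      intro k
      induction k with
      | zero => simp
      | succ k ih => rw [pow_succ, ← Matrix.mulVec_mulVec, ← hv, Matrix.mulVec_smul, ih, smul_smul, pow_succ']
    have h1 := hk N
    rw [hAN, Matrix.one_mulVec] at h1
    obtain ⟨i, hi⟩ := Function.ne_iff.1 hv0
    have h2 := congrFun h1 i
    simp only [Pi.smul_apply, smul_eq_mul] at h2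
    exact (mul_eq_right₀ hi).1 h2.symm
  · by_contra hall
    push Not at hall
    apply hm
    set μ := minpoly (AlgebraicClosure F) A with hμ
    have hsep : μ.Separable := (separable_X_pow_sub_C 1
      (by rw [← map_natCast f]; exact (map_ne_zero f).2 hN) one_ne_zero).of_dvd (by simpa using hmin)
    have hm0 : m ≠ 0 := by
      rintro rfl
      exact hm (pow_zero g)
    have hXm : (X : (AlgebraicClosure F)[X]) ^ m - 1 ≠ 0 := by
      rw [← C_1]; exact X_pow_sub_C_ne_zero (Nat.pos_of_ne_zero hm0) 1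
    have hdvd : μ ∣ X ^ m - 1 := by
      have hspl : μ.Splits := IsAlgClosed.splits μ
      rw [hspl.eq_prod_roots_of_monic (minpoly.monic (Algebra.IsIntegral.isIntegral A)),
        Multiset.prod_X_sub_C_dvd_iff_le_roots hXm,
        Multiset.le_iff_subset (nodup_roots hsep)]
      intro y hy
      have hyA : y ∈ A.charpoly.roots.toFinset := Multiset.mem_toFinset.2
        (Multiset.subset_of_le (roots.le_of_dvd hP0 (Matrix.minpoly_dvd_charpoly A)) hy)
      rw [mem_roots hXm,
        IsRoot]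
      simp [hall y hyA]
    obtain ⟨c, hc⟩ := hdvd
    have h1 := congrArg (aeval A) hc
    rw [map_mul, hμ, minpoly.aeval, zero_mul, map_sub, map_pow, aeval_X, map_one, sub_eq_zero,
      hA, ← RingHom.mapMatrix_apply, ← map_pow, ← map_one (f.mapMatrix (m := Fin n ⊕ Fin n))] at h1
    refine Subtype.ext ?_
    rw [SubmonoidClass.coe_pow]
    exact Matrix.map_injective f.injective h1

end CfsgLib.Spec53
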