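import Mathlib
import Cfsg.Agent.Spec53.EigenOrbits
import Cfsg.Agent.LinAlg.Witt.Bases
import Cfsg.Agent.LinAlg.Witt.Discr

/-!
Eigenvalues and block decompositions of semisimple isometries of a bilinear form.
-/

set_option autoImplicit false

namespace CfsgLib.Spec53

open Polynomial Matrix Module

variable {ι : Type*} [Fintype ι] [DecidableEq ι] {F : Type*} [Field F]

/-- A matrix commuting with a matrix with distinct eigenvalues and of `p`-power order is trivial. -/
theorem eq_one_of_commute_of_nodup {L : Type*} [Field L] [IsAlgClosed L] (p : ℕ) [Fact p.Prime]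
    [CharP L p] (A U : Matrix ι ι L) (hc : Commute A U) (hU : U ^ p = 1)
    (hR : A.charpoly.roots.Nodup) : U = 1 := by
  classical
  rcases isEmpty_or_nonempty ι with h | h
  · exact Subsingleton.elim _ _
  have hp : p.Prime := Fact.out
  have hP0 : A.charpoly ≠ 0 := (Matrix.charpoly_monic A).ne_zero
  set S := A.charpoly.roots.toFinset with hS
  have hcardS : S.card = Fintype.card ι := by
    rw [hS, Multiset.toFinset_card_of_nodup hR, Polynomial.splits_iff_card_roots.1 (IsAlgClosed.splits _),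
      Matrix.charpoly_natDegree_eq_dim]
  have hev : ∀ z : S, ∃ v, Module.End.HasEigenvector (Matrix.toLin' A) (z : L) v := fun z => by
    refine Module.End.HasEigenvalue.exists_hasEigenvector ?_
    rw [Module.End.hasEigenvalue_iff_isRoot_charpoly, Matrix.charpoly_toLin']
    exact (mem_roots hP0).1 (Multiset.mem_toFinset.1 z.2)
  choose v hv using hev
  have hli := Module.End.eigenvectors_linearIndependent' (Matrix.toLin' A) (fun z : S => (z : L))
    Subtype.val_injective v hv
  haveI : Nonempty S := by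
    rw [← Fintype.card_pos_iff, Fintype.card_coe, hcardS]; exact Fintype.card_pos
  let b := basisOfLinearIndependentOfCardEqFinrank hli (by
    rw [Module.finrank_pi, Fintype.card_coe, hcardS])
  have hb : ∀ z, A *ᵥ b z = (z : L) • b z := fun z => by
    rw [coe_basisOfLinearIndependentOfCardEqFinrank, ← Matrix.toLin'_apply]
    exact (hv z).apply_eq_smul
  refine Matrix.toLin'.injective (b.ext fun z => ?_)
  rw [Matrix.toLin'_apply, Matrix.toLin'_apply, Matrix.one_mulVec]
  set w := U *ᵥ b z with hw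
  have hAw : A *ᵥ w = (z : L) • w := by
    rw [hw, Matrix.mulVec_mulVec, hc.eq, ← Matrix.mulVec_mulVec, hb, Matrix.mulVec_smul]
  have h1 : ∀ j : S, j ≠ z → b.repr w j = 0 := by
    intro j hj
    have e2 : A *ᵥ w = ∑ i, (b.repr w i * (i : L)) • b i := by
      conv_lhs => rw [← b.sum_repr w, Matrix.mulVec_sum]
      exact Finset.sum_congr rfl fun i _ => by rw [Matrix.mulVec_smul, hb, smul_smul]
    rw [hAw] at e2
    have e3 := DFunLike.congr_fun (congrArg b.repr e2) j
    rw [map_smul, Finsupp.smul_apply, b.repr_sum_self, smul_eq_mul] at e3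
    have e4 : b.repr w j * ((j : L) - z) = 0 := by linear_combination -e3
    exact (mul_eq_zero.1 e4).resolve_right (sub_ne_zero.2 fun h => hj (Subtype.ext h))
  set c := b.repr w z
  have h2 : w = c • b z := by
    conv_lhs => rw [← b.sum_repr w]
    refine Finset.sum_eq_single_of_mem z (Finset.mem_univ z) fun i _ hi => ?_
    rw [h1 i hi, zero_smul]
  have h3 : ∀ j, (U ^ j) *ᵥ b z = c ^ j • b z := by
    intro j
    induction j with
    | zero => simp
    | succ j ih =>
      rw [pow_succ, ← Matrix.mulVec_mulVec, ← hw, h2, Matrix.mulVec_smul, ih, smul_smul, pow_succ']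
  have h4 := h3 p
  rw [hU, Matrix.one_mulVec] at h4
  have h5 : (c ^ p - 1) • b z = 0 := by rw [sub_smul, one_smul, ← h4, sub_self]
  have h6 : (c - 1) ^ p = 0 := by
    rw [sub_pow_char, one_pow]
    exact (smul_eq_zero.1 h5).resolve_right (b.ne_zero z)
  rw [h2, sub_eq_zero.1 ((pow_eq_zero_iff hp.ne_zero).1 h6), one_smul]

/-- A root of the characteristic polynomial of a matrix with `A ^ N = 1` is an `N`-th root of unity. -/
theorem pow_eq_one_of_isRoot_charpoly (A : Matrix ι ι F) {N : ℕ} (hAN : A ^ N = 1) {x : F}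
    (hx : A.charpoly.IsRoot x) : x ^ N = 1 := by
  rw [IsRoot, Matrix.eval_charpoly] at hx
  obtain ⟨v, hv0, hv⟩ := Matrix.exists_mulVec_eq_zero_iff.2 hx
  rw [Matrix.sub_mulVec, sub_eq_zero, Matrix.scalar_apply, ← Matrix.smul_one_eq_diagonal,
    Matrix.smul_mulVec, Matrix.one_mulVec] at hv
  have hk : ∀ k : ℕ, (A ^ k).mulVec v = x ^ k • v := by
    intro k
    induction k with
    | zero => simp
    | succ k ih =>
      rw [pow_succ, ← Matrix.mulVec_mulVec, ← hv, Matrix.mulVec_smul, ih, smul_smul, pow_succ']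
  have h1 := hk N
  rw [hAN, Matrix.one_mulVec] at h1
  obtain ⟨i, hi⟩ := Function.ne_iff.1 hv0
  have h2 := congrFun h1 i
  simp only [Pi.smul_apply, smul_eq_mul] at h2
  exact (mul_eq_right₀ hi).1 h2.symm

/-- The eigenvalues of an isometry are closed under inversion. -/
theorem isRoot_charpoly_inv {A G : Matrix ι ι F} (hG : G.det ≠ 0) (hA : Aᵀ * G * A = G) {x : F}
    (hx : A.charpoly.IsRoot x) : A.charpoly.IsRoot x⁻¹ := by
  rw [IsRoot, Matrix.eval_charpoly] at hx ⊢
  have hdetA : A.det ≠ 0 := by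
    intro h0
    have := congrArg Matrix.det hA
    rw [Matrix.det_mul, h0, mul_zero] at this
    exact hG this.symm
  rcases eq_or_ne x 0 with rfl | hx0
  · simpa using hx
  set sc := Matrix.scalar ι (α := F)
  have hcomm : ∀ (c : F) (M : Matrix ι ι F), sc c * M = M * sc c := fun c M =>
    (Matrix.scalar_commute c (fun _ => Commute.all _ _) M).eq
  have key : Aᵀ * G * (sc x⁻¹ - A) = (sc x - Aᵀ) * G * -(sc x⁻¹) := by
    have e1 : sc x * G * sc x⁻¹ = G := by
      rw [hcomm x G, mul_assoc, ← map_mul, mul_inv_cancel₀ hx0, map_one, mul_one]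
    rw [mul_sub, hA, sub_mul, sub_mul, mul_neg, mul_neg, e1]
    abel
  have h2 := congrArg Matrix.det key
  have h3 : (sc x - Aᵀ).det = 0 := by
    rw [← Matrix.det_transpose, Matrix.transpose_sub, Matrix.transpose_transpose]
    simpa [sc] using hx
  simp only [Matrix.det_mul, Matrix.det_transpose, h3, zero_mul] at h2
  exact (mul_eq_zero.1 h2).resolve_left (mul_ne_zero hdetA hG)

/-- A matrix of order prime to the characteristic is trivial on powers killing all its eigenvalues. -/
theorem pow_eq_one_of_roots [IsAlgClosed F] (A : Matrix ι ι F) {N m : ℕ} (hN : (N : F) ≠ 0)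
    (hAN : A ^ N = 1) (hm : 0 < m) (h : ∀ x ∈ A.charpoly.roots, x ^ m = 1) : A ^ m = 1 := by
  classical
  have hP0 : A.charpoly ≠ 0 := (Matrix.charpoly_monic A).ne_zero
  set μ := minpoly F A with hμ
  have hmin : μ ∣ X ^ N - C 1 := minpoly.dvd _ _ (by simp [hAN])
  have hsep : μ.Separable := (separable_X_pow_sub_C 1 hN one_ne_zero).of_dvd hmin
  have hXm : (X : F[X]) ^ m - C 1 ≠ 0 := X_pow_sub_C_ne_zero hm 1
  have hdvd : μ ∣ X ^ m - C 1 := by
    rw [(IsAlgClosed.splits μ).eq_prod_roots_of_monic (minpoly.monic (Algebra.IsIntegral.isIntegral A)),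
      Multiset.prod_X_sub_C_dvd_iff_le_roots hXm, Multiset.le_iff_subset (nodup_roots hsep)]
    intro y hy
    rw [mem_roots hXm, IsRoot]
    simp [h y (Multiset.subset_of_le (roots.le_of_dvd hP0 (Matrix.minpoly_dvd_charpoly A)) hy)]
  obtain ⟨c, hc⟩ := hdvd
  have h1 := congrArg (aeval A) hc
  rw [map_mul, hμ, minpoly.aeval, zero_mul, map_sub, map_pow, aeval_X, aeval_C, map_one,
    sub_eq_zero] at h1
  exact h1

/-- A semisimple matrix splits off the eigenspace of `c`. -/
theorem exists_blocks (A : Matrix ι ι F) {N : ℕ} (hN : (N : F) ≠ 0) (hAN : A ^ N = 1) (c : F) :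
    ∃ (k l : ℕ) (P : Matrix ι (Fin k ⊕ Fin l) F) (P' : Matrix (Fin k ⊕ Fin l) ι F)
      (A₂ : Matrix (Fin l) (Fin l) F),
      P' * P = 1 ∧ P * P' = 1 ∧ A * P = P * fromBlocks (c • (1 : Matrix (Fin k) (Fin k) F)) 0 0 A₂ ∧ (A₂ - c • 1).det ≠ 0 := by
  classical
  set T : Module.End F (ι → F) := Matrix.toLinAlgEquiv' A with hTdef
  have hT : T ^ N = 1 := by rw [hTdef, ← map_pow, hAN, map_one]
  have hcompl := CfsgLib.Classical.Semisimple.isCompl_ker_range
    (CfsgLib.Classical.Semisimple.isSemisimple_of_pow_eq_one hN hT) c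
  set E := LinearMap.ker (T - c • 1)
  set W := LinearMap.range (T - c • 1)
  have hE : ∀ v ∈ E, A *ᵥ v = c • v := fun v hv => by
    have := LinearMap.mem_ker.1 hv
    simpa [hTdef, sub_eq_zero] using this
  have hW : ∀ v ∈ W, A *ᵥ v ∈ W := fun v hv => by
    obtain ⟨y, rfl⟩ := hv
    exact ⟨T y, by simp [hTdef, Matrix.mulVec_smul, Matrix.mulVec_sub]⟩
  let bE := Module.finBasis F E
  let bW := Module.finBasis F W
  let b := (bE.prod bW).map (Submodule.prodEquivOfIsCompl E W hcompl)
  let TW : W →ₗ[F] W := (Matrix.toLin' A).restrict (fun v hv => by simpa using hW v hv)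
  let A₂ := LinearMap.toMatrix bW bW TW
  let P := (Pi.basisFun F ι).toMatrix b
  have hP : ∀ i j, P i j = b j i := fun i j => rfl
  refine ⟨_, _, P, b.toMatrix (Pi.basisFun F ι), A₂, b.toMatrix_mul_toMatrix_flip _,
    (Pi.basisFun F ι).toMatrix_mul_toMatrix_flip _, ?_, ?_⟩
  · ext i j
    have hcol : (A * P) i j = (A *ᵥ b j) i := rfl
    rw [hcol, Matrix.mul_apply]
    rcases j with j | j
    · have : b (Sum.inl j) = (bE j : ι → F) := by simp [b]
      rw [this, hE _ (bE j).2, Fintype.sum_eq_single (Sum.inl j)]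
      · rw [hP, this, fromBlocks_apply₁₁, Matrix.smul_apply, Matrix.one_apply_eq, Pi.smul_apply,
          smul_eq_mul, smul_eq_mul, mul_one, mul_comm]
      · intro a ha
        rcases a with a | a
        · rw [fromBlocks_apply₁₁, Matrix.smul_apply, Matrix.one_apply_ne (fun h => ha (by rw [h])),
            smul_zero, mul_zero]
        · rw [fromBlocks_apply₂₁, Matrix.zero_apply, mul_zero]
    · have hj : b (Sum.inr j) = (bW j : ι → F) := by simp [b]
      have hl : ∀ a, b (Sum.inr a) = (bW a : ι → F) := fun a => by simp [b]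
      rw [hj, Fintype.sum_sum_type]
      have h1 : A *ᵥ (bW j : ι → F) = ((TW (bW j) : W) : ι → F) := by
        simp [TW]
      rw [h1, ← bW.sum_repr (TW (bW j))]
      simp only [fromBlocks_apply₁₂, fromBlocks_apply₂₂, Matrix.zero_apply, mul_zero,
        Finset.sum_const_zero, zero_add, hP, hl, AddSubmonoidClass.coe_finset_sum, Finset.sum_apply,
        SetLike.val_smul, Pi.smul_apply, smul_eq_mul, A₂, LinearMap.toMatrix_apply]
      exact Finset.sum_congr rfl fun a _ => mul_comm _ _
  · intro h0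
    obtain ⟨v, hv0, hv⟩ := Matrix.exists_mulVec_eq_zero_iff.2 h0
    rw [Matrix.sub_mulVec, sub_eq_zero, Matrix.smul_mulVec, Matrix.one_mulVec] at hv
    set w : W := bW.equivFun.symm v with hw
    have h1 : TW w = c • w := by
      apply bW.equivFun.injective
      have := LinearMap.toMatrix_mulVec_repr bW bW TW w
      rw [map_smul, Module.Basis.equivFun_apply, ← this, hw, Module.Basis.equivFun_symm_apply,
        bW.repr_sum_self, hv, Module.Basis.equivFun_apply, bW.repr_sum_self]
    have h2 : (w : ι → F) ∈ E := by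
      refine LinearMap.mem_ker.2 ?_
      have := congrArg Subtype.val h1
      simp only [TW, LinearMap.coe_restrict_apply, SetLike.val_smul, Matrix.toLin'_apply] at this
      simp [hTdef, sub_eq_zero, this]
    have h3 : w = 0 := Subtype.ext (Submodule.disjoint_def.1 hcompl.disjoint _ h2 w.2)
    exact hv0 (bW.equivFun.symm.map_eq_zero_iff.1 h3)

theorem cancel_right {k l : ℕ} {B : Matrix (Fin l) (Fin l) F} (hB : IsUnit B)
    {X : Matrix (Fin k) (Fin l) F} (h : X * B = 0) : X = 0 := by
  obtain ⟨u, rfl⟩ := hB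
  calc X = X * ((u : Matrix (Fin l) (Fin l) F) *
      ((u⁻¹ : (Matrix (Fin l) (Fin l) F)ˣ) : Matrix (Fin l) (Fin l) F)) := by
        rw [u.mul_inv, Matrix.mul_one]
    _ = 0 := by rw [← Matrix.mul_assoc, h, Matrix.zero_mul]

theorem cancel_left {k l : ℕ} {B : Matrix (Fin l) (Fin l) F} (hB : IsUnit B)
    {X : Matrix (Fin l) (Fin k) F} (h : B * X = 0) : X = 0 := by
  obtain ⟨u, rfl⟩ := hB
  calc X = (((u⁻¹ : (Matrix (Fin l) (Fin l) F)ˣ) : Matrix (Fin l) (Fin l) F) *
      (u : Matrix (Fin l) (Fin l) F)) * X := by rw [u.inv_mul, Matrix.one_mul]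
    _ = 0 := by rw [Matrix.mul_assoc, h, Matrix.mul_zero]

/-- The block decomposition is respected by commuting matrices and by the invariant form. -/
theorem blocks_offdiag {k l : ℕ} {c : F} {A₂ : Matrix (Fin l) (Fin l) F} (h : (A₂ - c • 1).det ≠ 0)
    (M : Matrix (Fin k ⊕ Fin l) (Fin k ⊕ Fin l) F) :
    (Commute (fromBlocks (c • (1 : Matrix (Fin k) (Fin k) F)) 0 0 A₂) M →
      M = fromBlocks M.toBlocks₁₁ 0 0 M.toBlocks₂₂ ∧ Commute A₂ M.toBlocks₂₂) ∧
    (c * c = 1 → (fromBlocks (c • (1 : Matrix (Fin k) (Fin k) F)) 0 0 A₂)ᵀ * M * fromBlocks (c • (1 : Matrix (Fin k) (Fin k) F)) 0 0 A₂ = M →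
      M = fromBlocks M.toBlocks₁₁ 0 0 M.toBlocks₂₂ ∧
        A₂ᵀ * M.toBlocks₂₂ * A₂ = M.toBlocks₂₂) := by
  have hu : IsUnit (A₂ - c • 1) := (Matrix.isUnit_iff_isUnit_det _).2 (Ne.isUnit h)
  have hut : IsUnit (A₂ᵀ - c • 1) := by
    rw [Matrix.isUnit_iff_isUnit_det, ← Matrix.det_transpose, Matrix.transpose_sub,
      Matrix.transpose_transpose, Matrix.transpose_smul, Matrix.transpose_one]
    exact Ne.isUnit h
  obtain ⟨a, b, d, e, rfl⟩ : ∃ a b d e, M = fromBlocks a b d e :=
    ⟨_, _, _, _, (Matrix.fromBlocks_toBlocks M).symm⟩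
  simp only [toBlocks_fromBlocks₁₁, toBlocks_fromBlocks₂₂]
  constructor
  · intro hc
    have h1 := hc.eq
    rw [fromBlocks_multiply, fromBlocks_multiply, fromBlocks_inj] at h1
    obtain ⟨-, h12, h21, h22⟩ := h1
    simp only [Matrix.zero_mul, Matrix.mul_zero, add_zero, zero_add, Matrix.smul_mul, Matrix.one_mul,
      Matrix.mul_smul, Matrix.mul_one] at h12 h21 h22
    have e1 : b = 0 := cancel_right hu (by
      rw [Matrix.mul_sub, Matrix.mul_smul, Matrix.mul_one, ← h12, sub_self])
    have e2 : d = 0 := cancel_left hu (by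
      rw [Matrix.sub_mul, Matrix.smul_mul, Matrix.one_mul, h21, sub_self])
    exact ⟨by rw [e1, e2], h22⟩
  · intro hcc hG
    rw [fromBlocks_transpose, fromBlocks_multiply, fromBlocks_multiply, fromBlocks_inj] at hG
    obtain ⟨-, h12, h21, h22⟩ := hG
    simp only [Matrix.transpose_zero, Matrix.zero_mul, Matrix.mul_zero, add_zero, zero_add,
      Matrix.transpose_smul, Matrix.transpose_one, Matrix.smul_mul, Matrix.one_mul, Matrix.mul_smul,
      Matrix.mul_one] at h12 h21 h22
    have e1 : b = 0 := cancel_right hu (by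
      have := congrArg (fun X => c • X) h12
      simp only [smul_smul, hcc, one_smul] at this
      rw [Matrix.mul_sub, Matrix.mul_smul, Matrix.mul_one, this, sub_self])
    have e2 : d = 0 := cancel_left hut (by
      have := congrArg (fun X => c • X) h21
      simp only [smul_smul, hcc, one_smul] at this
      rw [Matrix.sub_mul, Matrix.smul_mul, Matrix.one_mul, this, sub_self])
    exact ⟨by rw [e1, e2], h22⟩

theorem charpoly_blocks {k l : ℕ} {c : F} {A₂ : Matrix (Fin l) (Fin l) F} {A : Matrix ι ι F}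
    {P : Matrix ι (Fin k ⊕ Fin l) F} {P' : Matrix (Fin k ⊕ Fin l) ι F} (h1 : P' * P = 1)
    (h2 : P * P' = 1) (h3 : A * P = P * fromBlocks (c • (1 : Matrix (Fin k) (Fin k) F)) 0 0 A₂) :
    A.charpoly = (X - C c) ^ k * A₂.charpoly := by
  have e : A = P * (fromBlocks (c • (1 : Matrix (Fin k) (Fin k) F)) 0 0 A₂ * P') := by
    rw [← Matrix.mul_assoc, ← h3, Matrix.mul_assoc, h2, Matrix.mul_one]
  have hcard : Fintype.card ι = Fintype.card (Fin k ⊕ Fin l) := by
    have e1 := congrArg Matrix.trace (rfl : A = A)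
    have h4 : Module.finrank F (ι → F) = Module.finrank F (Fin k ⊕ Fin l → F) :=
      LinearEquiv.finrank_eq
        (LinearEquiv.ofLinearMap (Matrix.toLin' P') (Matrix.toLin' P)
          (by rw [← Matrix.toLin'_mul, h1, Matrix.toLin'_one])
          (by rw [← Matrix.toLin'_mul, h2, Matrix.toLin'_one]))
    simpa using h4
  rw [e, Matrix.charpoly_mul_comm_of_le P _ hcard.ge, Matrix.mul_assoc, h1, Matrix.mul_one,
    hcard, Nat.sub_self, pow_zero, one_mul, Matrix.charpoly_fromBlocks_zero₁₂,
    Matrix.smul_one_eq_diagonal, Matrix.charpoly_diagonal, Finset.prod_const, Finset.card_univ,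
    Fintype.card_fin]

/-- The determinant of an alternating matrix is a square. -/
theorem isSquare_det_alternating (h2 : (2 : F) ≠ 0) (K : Matrix ι ι F) (hK : Kᵀ = -K) :
    IsSquare K.det := by
  classical
  by_cases h0 : K.det = 0
  · exact h0 ▸ IsSquare.zero
  have hij : ∀ i j, K j i = -K i j := fun i j => by
    have := congrFun (congrFun hK i) j
    simpa using this
  let B : LinearMap.BilinForm F (ι → F) := Matrix.toBilin' K
  have hA : B.IsAlt := by
    intro x
    have h1 : B x x = -B x x := by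
      simp only [B, Matrix.toBilin'_apply']
      conv_lhs => rw [dotProduct_comm, ← Matrix.vecMul_transpose, ← Matrix.dotProduct_mulVec, hK,
        Matrix.neg_mulVec, dotProduct_neg]
    have h3 : (2 : F) * B x x = 0 := by linear_combination h1
    exact (mul_eq_zero.1 h3).resolve_left h2
  have hg : CfsgLib.LinAlg.Witt.gram B (Pi.basisFun F ι) = K := by
    ext i j
    simp [CfsgLib.LinAlg.Witt.gram_apply, B, Matrix.toBilin'_apply']
  have hker := CfsgLib.LinAlg.Witt.ker_eq_bot_of_gram_det_ne_zero B (Pi.basisFun F ι) (hg ▸ h0)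
  obtain ⟨m, b, hm, hef, hee, hff⟩ := CfsgLib.LinAlg.Witt.exists_symplectic_basis B hA hker
  have e : Fin m ⊕ Fin m ≃ ι := Fintype.equivOfCardEq (by
    rw [Module.finrank_pi] at hm
    rw [Fintype.card_sum, Fintype.card_fin]; omega)
  obtain ⟨s, hs0, hs⟩ := CfsgLib.LinAlg.Witt.exists_det_gram_eq B (Pi.basisFun F ι) (b.reindex e)
  have h1 : (CfsgLib.LinAlg.Witt.gram B (b.reindex e)).det = 1 := by
    have e2 : CfsgLib.LinAlg.Witt.gram B (b.reindex e) =
        (CfsgLib.LinAlg.Witt.gram B b).submatrix e.symm e.symm := by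
      ext i j; simp [CfsgLib.LinAlg.Witt.gram_apply]
    have e3 : CfsgLib.LinAlg.Witt.gram B b =
        fromBlocks 0 1 1 0 * fromBlocks (-1 : Matrix (Fin m) (Fin m) F) 0 0 1 := by
      rw [fromBlocks_multiply]
      ext i j
      rcases i with i | i <;> rcases j with j | j <;> rw [CfsgLib.LinAlg.Witt.gram_apply]
      · simp [hee]
      · simp [hef, Matrix.one_apply]
      · rw [← LinearMap.IsAlt.neg hA, hef]
        rcases eq_or_ne i j with rfl | h <;> simp [*, Matrix.one_apply, Ne.symm]
      · simp [hff]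
    rw [e2, Matrix.det_submatrix_equiv_self, e3, Matrix.det_mul, CfsgLib.LinAlg.Witt.det_antidiag,
      Matrix.det_fromBlocks_zero₁₂, Matrix.det_neg, Matrix.det_one, Fintype.card_fin, mul_one,
      mul_one, ← mul_pow, neg_one_mul, neg_neg, one_pow]
  rw [h1, hg] at hs
  exact ⟨s⁻¹, by field_simp; linear_combination -hs⟩

/-- A unipotent isometry of a symmetric form in dimension at most two is trivial. -/
theorem eq_one_of_small_orthogonal (h2 : (2 : F) ≠ 0) (p : ℕ) [Fact p.Prime] [CharP F p] {k : ℕ}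
    (hk : k ≤ 2) {G U : Matrix (Fin k) (Fin k) F} (hGs : Gᵀ = G) (hG : G.det ≠ 0)
    (hU : Uᵀ * G * U = G) (hUp : U ^ p = 1) : U = 1 := by
  rcases Nat.eq_zero_or_pos k with rfl | hk0
  · exact Subsingleton.elim _ _
  haveI : Nonempty (Fin k) := ⟨⟨0, hk0⟩⟩
  set N := U - 1 with hN
  have hNp : N ^ p = 0 := by
    rw [hN, sub_pow_char_of_commute p (Commute.one_right _), hUp, one_pow, sub_self]
  have hNk : N ^ 2 = 0 := by
    have h1 := Matrix.isNilpotent_charpoly_sub_pow_of_isNilpotent (M := N) ⟨p, hNp⟩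
    rw [Fintype.card_fin, isNilpotent_iff_eq_zero, sub_eq_zero] at h1
    have h3 := Matrix.aeval_self_charpoly N
    rw [h1, map_pow, aeval_X] at h3
    exact pow_eq_zero_of_le hk h3
  have hUN : U = 1 + N := by rw [hN]; abel
  have e1 : Nᵀ * G + G * N + Nᵀ * G * N = 0 := by
    have h1 : Uᵀ * G * U - G = 0 := sub_eq_zero.2 hU
    rw [hUN, Matrix.transpose_add, Matrix.transpose_one] at h1
    rw [← h1]; noncomm_ring
  have e2 : Nᵀ * G * N = 0 := by
    have h1 := congrArg (· * N) e1
    simp only [add_mul, zero_mul, mul_assoc, ← pow_two, hNk, mul_zero, add_zero] at h1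
    simpa [mul_assoc] using h1
  have e3 : (G * N)ᵀ = -(G * N) := by
    rw [Matrix.transpose_mul, hGs]
    rw [e2, add_zero] at e1
    exact eq_neg_of_add_eq_zero_left e1
  have hNdet : (G * N).det = 0 := by
    have h1 := congrArg Matrix.det hNk
    rw [Matrix.det_pow, Matrix.det_zero] at h1
    rw [Matrix.det_mul, (pow_eq_zero_iff two_ne_zero).1 h1, mul_zero]
  have hij : ∀ i j, (G * N) j i = -(G * N) i j := fun i j => by
    have := congrFun (congrFun e3 i) j
    simpa using this
  have hdiag : ∀ i, (G * N) i i = 0 := fun i => by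
    have h3 : (2 : F) * (G * N) i i = 0 := by linear_combination hij i i
    exact (mul_eq_zero.1 h3).resolve_left h2
  have hGN : G * N = 0 := by
    rcases (show k = 1 ∨ k = 2 by omega) with rfl | rfl
    · ext i j
      rw [Subsingleton.elim j i, hdiag]; rfl
    · rw [Matrix.det_fin_two, hdiag 0, hdiag 1, hij 0 1, zero_mul, zero_sub, mul_neg, neg_neg,
        mul_self_eq_zero] at hNdet
      ext i j
      fin_cases i <;> fin_cases j <;> simp [hdiag, hij 0 1, hNdet]
  have hN0 : N = 0 := ((Matrix.isUnit_iff_isUnit_det G).2 (Ne.isUnit hG)).mul_right_eq_zero.1 hGN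
  rw [hUN, hN0, add_zero]

end CfsgLib.Spec53
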