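import Mathlib
import Cfsg.Prelude.Def_Classical
import Cfsg.Agent.Eq.Def_Classical
import Cfsg.Agent.Classical.Orth.Omega
import Cfsg.Agent.Zsigmondy.Main
import Cfsg.Agent.Spec53.IsometryEigen

/-!
`Ω_{2m+3}(q)` has no element of order `p (q ^ m + 1)`.
-/

set_option autoImplicit false

namespace CfsgLib.Spec53

open Polynomial Matrix CfsgLib.OrthGeo CfsgLib.Classical.Orth

/-- `M ∣ (q ^ (2 m) - 1) / (q - 1)` for `M = q ^ m + 1`. -/
theorem sum_range_two_mul_pow (q : ℕ) (m : ℕ) :
    ∑ i ∈ Finset.range (2 * m), q ^ i = (∑ i ∈ Finset.range m, q ^ i) * (q ^ m + 1) := by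
  rw [two_mul, Finset.sum_range_add, mul_add, mul_one, add_comm, Finset.sum_mul]
  congr 1
  exact Finset.sum_congr rfl fun i _ => by rw [pow_add, mul_comm]

/-- The norm of `1 + x` is not a square when `x` has order `q ^ m + 1`. -/
theorem not_isSquare_norm {F L : Type*} [Field F] [Fintype F] [Field L] [Algebra F L]
    (h2 : (2 : L) ≠ 0) {m h : ℕ} (hm : 1 ≤ m) (hq : Fintype.card F = 2 * h + 1) (hh : 1 ≤ h) {x : L}
    (hx : orderOf x = Fintype.card F ^ m + 1) {e : F}
    (he : algebraMap F L e = ∏ i ∈ Finset.range (2 * m), (1 + x ^ (Fintype.card F ^ i))) :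
    ¬ IsSquare e := by
  rintro ⟨c, rfl⟩
  set q := Fintype.card F with hqdef
  obtain ⟨p, hp⟩ := CharP.exists F
  haveI := hp
  obtain ⟨a, hprime, ha⟩ := FiniteField.card F p
  haveI : Fact p.Prime := ⟨hprime⟩
  haveI : CharP L p := charP_of_injective_algebraMap (algebraMap F L).injective p
  have hpow : ∀ i, (1 + x) ^ (q ^ i) = 1 + x ^ (q ^ i) := fun i => by
    rw [hqdef, ha, ← pow_mul, add_pow_char_pow, one_pow]
  have hx1 : x ^ (q ^ m + 1) = 1 := hx ▸ pow_orderOf_eq_one x
  have hx0 : x ≠ 0 := by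
    rintro rfl
    simp at hx
  have hqm : 1 < q ^ m := Nat.one_lt_pow (by omega) (by omega)
  have h1x : 1 + x ≠ 0 := by
    intro h0
    have : x = -1 := eq_neg_of_add_eq_zero_right h0
    have h3 : x ^ 2 = 1 := by rw [this]; ring
    have := Nat.le_of_dvd two_pos (hx ▸ orderOf_dvd_of_pow_eq_one h3)
    omega
  set S := ∑ i ∈ Finset.range (2 * m), q ^ i with hS
  have hP : algebraMap F L (c * c) = (1 + x) ^ S := by
    rw [he, hS, ← Finset.prod_pow_eq_pow_sum]
    exact Finset.prod_congr rfl fun i _ => (hpow i).symm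
  have hc0 : c ≠ 0 := by
    rintro rfl
    rw [mul_zero, map_zero] at hP
    exact pow_ne_zero _ h1x hP.symm
  have hch : (c * c) ^ h = 1 := by
    rw [← pow_two, ← pow_mul, show 2 * h = q - 1 by omega]
    exact FiniteField.pow_card_sub_one_eq_one c hc0
  have h1 : (1 + x) ^ (S * h) = 1 := by rw [pow_mul, ← hP, ← map_pow, hch, map_one]
  obtain ⟨j, hj⟩ : ∃ j, q ^ m = 2 * j + 1 := (Nat.odd_iff.2 (by omega) : Odd q).pow
  have hgeom : (∑ i ∈ Finset.range m, q ^ i) * (2 * h) = 2 * j := by
    have := geom_sum_mul_add (2 * h) m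
    rw [← hq] at this
    omega
  have hSh : S * h = (q ^ m - 1) * (j + 1) := by
    rw [hS, sum_range_two_mul_pow, show q ^ m - 1 = 2 * j by omega, ← hgeom, hj]
    ring
  have hk : (1 + x) ^ (q ^ m - 1) = x⁻¹ := by
    have e1 : (1 + x) ^ (q ^ m - 1) * (1 + x) = x⁻¹ * (1 + x) := by
      rw [← pow_succ, Nat.sub_add_cancel hqm.le, hpow, mul_add, mul_one, inv_mul_cancel₀ hx0]
      have : x ^ (q ^ m) = x⁻¹ := eq_inv_of_mul_eq_one_left (by rw [← pow_succ]; exact hx1)
      rw [this]
      ring
    exact mul_right_cancel₀ h1x e1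
  have hhalf : x ^ (j + 1) = -1 := by
    refine (mul_self_eq_one_iff.1 ?_).resolve_left fun h0 => ?_
    · rw [← pow_add, show j + 1 + (j + 1) = q ^ m + 1 by omega, hx1]
    · have := Nat.le_of_dvd (by omega) (hx ▸ orderOf_dvd_of_pow_eq_one h0)
      omega
  rw [hSh, pow_mul, hk, inv_pow, hhalf, inv_neg_one] at h1
  exact h2 (by linear_combination -h1)

/-- The eigenvalues, and then the spinor norm, of the semisimple part. -/
theorem not_orderOf_omega {ι : Type} [Fintype ι] [DecidableEq ι] {F : Type*} [Field F] [Fintype F]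
    (p : ℕ) [Fact p.Prime] [CharP F p] (hp2 : p ≠ 2) {Q : (ι → F) → F}
    (hQ : Cfsg.Geo.IsNondegenerateQuadraticForm Q) {m : ℕ} (hm : 2 ≤ m)
    (hcard : Fintype.card ι = 2 * m + 3) (g : Cfsg.isometryGroup F Q) (hg : g ∈ Cfsg.Omega F Q) :
    orderOf g ≠ p * (Fintype.card F ^ m + 1) := by
  classical
  intro hord
  set q := Fintype.card F with hqdef
  set M := q ^ m + 1 with hM
  have hp : p.Prime := Fact.out
  obtain ⟨e0, -, he0⟩ := FiniteField.card F p
  have hpq : p ∣ q := hqdef ▸ he0 ▸ dvd_pow_self p e0.ne_zero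
  have h2 : (2 : F) ≠ 0 := fun h => hp2 ((Nat.prime_dvd_prime_iff_eq hp Nat.prime_two).1
    ((CharP.cast_eq_zero_iff F p 2).1 (by exact_mod_cast h)))
  have hq2 : 2 ≤ q := Fintype.one_lt_card
  have hqodd : Odd q := hqdef ▸ he0 ▸ (hp.odd_of_ne_two hp2).pow
  obtain ⟨hh, hhq⟩ := hqodd
  have hMF : (M : F) ≠ 0 := by
    rw [hM, Nat.cast_add, Nat.cast_pow, Nat.cast_one, hqdef, FiniteField.cast_card_eq_zero,
      zero_pow (by omega), zero_add]
    exact one_ne_zero
  have hexc : ¬ (Nat.card F = 2 ∧ Fintype.card ι = 4) := fun h => by omega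
  obtain ⟨hpar, -⟩ := (mem_omega_iff hQ hexc g).1 hg
  have hdet1 : ((g : GL ι F) : Matrix ι ι F).det = 1 := by
    rw [det_eq_neg_one_pow hQ hexc g.2, hpar.neg_one_pow]
  set A : Matrix ι ι F := (((g ^ p : Cfsg.isometryGroup F Q) : GL ι F) : Matrix ι ι F) with hAdef
  set U : Matrix ι ι F := (((g ^ M : Cfsg.isometryGroup F Q) : GL ι F) : Matrix ι ι F) with hUdef
  let val : Cfsg.isometryGroup F Q →* Matrix ι ι F :=
    (Units.coeHom _).comp (Cfsg.isometryGroup F Q).subtype
  have hval : Function.Injective val := fun a b h => Subtype.ext (Units.ext h)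
  have hAM : A ^ M = 1 := by
    show val (g ^ p) ^ M = 1
    rw [← map_pow, ← pow_mul, ← hord, pow_orderOf_eq_one, map_one]
  have hUp : U ^ p = 1 := by
    show val (g ^ M) ^ p = 1
    rw [← map_pow, ← pow_mul, mul_comm M p, ← hord, pow_orderOf_eq_one, map_one]
  have hU1 : U ≠ 1 := fun h => by
    have h0 : g ^ M = 1 := hval (h.trans (map_one val).symm)
    have h3 : p * M ≤ M := Nat.le_of_dvd (by omega) (hord ▸ orderOf_dvd_of_pow_eq_one h0)
    have h4 : 2 * M ≤ p * M := Nat.mul_le_mul_right M hp.two_le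
    omega
  have hAord : ∀ k, A ^ k = 1 → M ∣ k := fun k hk => by
    have h0 : g ^ (p * k) = 1 := hval (by
      rw [map_pow, pow_mul, ← map_pow val g p, map_one]; exact hk)
    exact Nat.dvd_of_mul_dvd_mul_left hp.pos (hord ▸ orderOf_dvd_of_pow_eq_one h0)
  have hAU : Commute A U := ((Commute.refl g).pow_pow p M).map val
  have hAdet : A.det = 1 := by
    show (val (g ^ p)).det = 1
    rw [map_pow, Matrix.det_pow]
    show ((g : GL ι F) : Matrix ι ι F).det ^ p = 1
    rw [hdet1, one_pow]
  set G : Matrix ι ι F := LinearMap.toMatrix₂' F (bform hQ) with hGdef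
  have hB : ∀ x y : ι → F, bform hQ x y = x ⬝ᵥ G *ᵥ y := fun x y => by
    rw [← Matrix.toLinearMap₂'_apply', hGdef, Matrix.toLinearMap₂'_toMatrix']
  have hGs : Gᵀ = G := by
    ext i j
    rw [Matrix.transpose_apply, hGdef, LinearMap.toMatrix₂'_apply, LinearMap.toMatrix₂'_apply,
      b_symm hQ]
  have hGdet : G.det ≠ 0 := by
    intro h0
    obtain ⟨v, hv0, hv⟩ := Matrix.exists_mulVec_eq_zero_iff.2 h0
    exact hv0 ((b_nondeg hQ).2 v fun x => by rw [hB, hv, dotProduct_zero])
  have hentry : ∀ {κ : Type} [Fintype κ] [DecidableEq κ] (X Y : Matrix ι κ F) (i j : κ),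
      bform hQ (fun a => X a i) (fun a => Y a j) = (Xᵀ * G * Y) i j := fun X Y i j => by
    rw [hB, Matrix.dotProduct_mulVec, Matrix.mul_apply]
    rfl
  have hiso : ∀ k : ℕ, (val (g ^ k))ᵀ * G * val (g ^ k) = G := fun k => by
    ext i j
    rw [← hentry]
    have := isometry_b hQ (g ^ k : Cfsg.isometryGroup F Q).2 (Pi.single i 1) (Pi.single j 1)
    rw [Matrix.mulVec_single_one, Matrix.mulVec_single_one] at this
    refine this.trans ?_
    rw [hGdef, LinearMap.toMatrix₂'_apply]
  have hAG : Aᵀ * G * A = G := hiso p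
  have hUG : Uᵀ * G * U = G := hiso M
  set L := AlgebraicClosure F
  haveI : CharP L p := AlgebraicClosure.instCharP F
  set f := algebraMap F L with hf
  have hMap : ∀ X Y : Matrix ι ι F, (X * Y).map f = X.map f * Y.map f := fun X Y => Matrix.map_mul
  have h2L : (2 : L) ≠ 0 := by
    rw [← map_ofNat f 2]
    exact (map_ne_zero f).2 h2
  set AL := A.map f with hAL
  set R := AL.charpoly.roots with hR
  have hP0 : AL.charpoly ≠ 0 := (Matrix.charpoly_monic AL).ne_zero
  have hRcard : R.card = 2 * m + 3 := by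
    rw [hR, Polynomial.splits_iff_card_roots.1 (IsAlgClosed.splits _),
      Matrix.charpoly_natDegree_eq_dim, hcard]
  have hALM : AL ^ M = 1 := by
    rw [hAL, ← RingHom.mapMatrix_apply, ← map_pow, hAM, map_one]
  have hMapf : ((M : ℕ) : L) ≠ 0 := by rw [← map_natCast f]; exact (map_ne_zero f).2 hMF
  have hRinv : ∀ y ∈ R, y⁻¹ ∈ R := fun y hy => (mem_roots hP0).2 (isRoot_charpoly_inv (G := G.map f)
    (by rw [← RingHom.mapMatrix_apply, ← RingHom.map_det]; exact (map_ne_zero f).2 hGdet)
    (by rw [hAL, ← Matrix.transpose_map, ← hMap, ← hMap, hAG]) ((mem_roots hP0).1 hy))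
  set σ := iterateFrobenius L p e0
  have hσ : ∀ y, σ y = y ^ q := fun y => by rw [iterateFrobenius_def, hqdef, he0]
  have hRfrob : R.map σ = R := by
    have hfix : AL.map σ = AL := by
      ext i j
      simp only [hAL, Matrix.map_apply]
      rw [hσ, ← map_pow, hqdef, FiniteField.pow_card]
    conv_rhs => rw [hR, ← hfix, Matrix.charpoly_map, (IsAlgClosed.splits AL.charpoly).roots_map]
  have hRprod : R.prod = 1 := by
    rw [hR, ← Matrix.det_eq_prod_roots_charpoly, hAL, ← RingHom.mapMatrix_apply, ← RingHom.map_det,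
      hAdet, map_one]
  -- an eigenvalue of order divisible by a primitive prime divisor
  obtain ⟨r, hr, hrd, hrprim⟩ := CfsgLib.Zsigmondy.exists_isPPD_of_three_le hq2
    (show 3 ≤ 2 * m by omega) (fun h => by omega)
  haveI : Fact r.Prime := ⟨hr⟩
  have hrm : orderOf (q : ZMod r) = 2 * m := by
    have h1 := (CfsgLib.Zsigmondy.dvd_pow_sub_one_iff (show 1 ≤ q by omega) (2 * m)).1 hrd
    rcases (Nat.le_of_dvd (by omega) h1).eq_or_lt with h | h
    · exact h
    · exact absurd ((CfsgLib.Zsigmondy.dvd_pow_sub_one_iff (show 1 ≤ q by omega) _).2 dvd_rfl)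
        (hrprim _ (Nat.pos_of_dvd_of_pos h1 (by omega)) h)
  have hr2 : r ≠ 2 := by
    rintro rfl
    have := Nat.le_of_dvd (by norm_num) (hrm ▸ orderOf_dvd_of_pow_eq_one (show (q : ZMod 2) ^ 1 = 1 by
      rw [pow_one, hhq]; push_cast; rw [show (2 : ZMod 2) = 0 from ZMod.natCast_self 2, zero_mul, zero_add]))
    omega
  have hrM : r ∣ M := by
    have h1 : (q : ZMod r) ^ m = -1 := by
      refine (mul_self_eq_one_iff.1 ?_).resolve_left fun h0 => ?_
      · rw [← pow_add, ← two_mul, ← hrm, pow_orderOf_eq_one]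
      · have := Nat.le_of_dvd (by omega) (hrm ▸ orderOf_dvd_of_pow_eq_one h0)
        omega
    rw [← ZMod.natCast_eq_zero_iff, hM]
    push_cast
    rw [h1, neg_add_cancel]
  obtain ⟨M', hM'⟩ := hrM
  have hM'0 : 0 < M' := Nat.pos_of_ne_zero fun h => by rw [h, mul_zero] at hM'; omega
  obtain ⟨x, hx, hxM'⟩ : ∃ x ∈ R, x ^ M' ≠ 1 := by
    by_contra hall
    push Not at hall
    have h1 := pow_eq_one_of_roots AL hMapf hALM hM'0 hall
    rw [hAL, ← RingHom.mapMatrix_apply, ← map_pow] at h1
    have h3 : A ^ M' = 1 :=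
      Matrix.map_injective f.injective (by
        show f.mapMatrix (A ^ M') = f.mapMatrix 1
        rw [h1, map_one])
    have := Nat.le_of_dvd hM'0 (hAord M' h3)
    nlinarith [hr.two_le]
  have hRM : ∀ y ∈ R, y ^ M = 1 := fun y hy =>
    pow_eq_one_of_isRoot_charpoly AL hALM ((mem_roots hP0).1 hy)
  have hx0 : x ≠ 0 := by
    rintro rfl
    have := hRM 0 hx
    rw [zero_pow (by omega)] at this
    exact zero_ne_one this
  set d := orderOf x with hd
  have hdM : d ∣ M := orderOf_dvd_of_pow_eq_one (hRM x hx)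
  have hrd' : r ∣ d := by
    by_contra hnd
    apply hxM'
    rw [← orderOf_dvd_iff_pow_eq_one]
    exact (hr.coprime_iff_not_dvd.2 hnd).symm.dvd_of_dvd_mul_left (hM' ▸ hdM)
  have hd0 : 0 < d := Nat.pos_of_dvd_of_pos hdM (by omega)
  haveI : NeZero d := ⟨hd0.ne'⟩
  have hmd : orderOf (q : ZMod d) = 2 * m := by
    refine Nat.dvd_antisymm (orderOf_dvd_of_pow_eq_one ?_) ?_
    · have h1 : (q : ZMod d) ^ m = -1 := by
        have h3 : ((M : ℕ) : ZMod d) = 0 := (ZMod.natCast_eq_zero_iff _ _).2 hdM
        rw [hM] at h3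
        push_cast at h3
        exact eq_neg_of_add_eq_zero_left h3
      rw [two_mul, pow_add, h1, neg_mul_neg, one_mul]
    · rw [← hrm]
      simpa [map_natCast] using orderOf_map_dvd (ZMod.castHom hrd' (ZMod r)).toMonoidHom (q : ZMod d)
  set u := Units.mk0 x hx0 with hu
  have hud : orderOf u = d := by rw [hd, ← orderOf_units]; rfl
  set O := (Finset.range (2 * m)).image fun i => x ^ (q ^ i) with hO
  have hinjO : Set.InjOn (fun i => x ^ (q ^ i)) (Finset.range (2 * m)) := by
    intro i hi j hj hij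
    rw [Finset.coe_range] at hi hj
    rw [← hmd] at hi hj
    refine pow_injOn_Iio_orderOf hi hj ?_
    have h1 : u ^ (q ^ i) = u ^ (q ^ j) := Units.ext (by simpa [hu] using hij)
    rw [pow_eq_pow_iff_modEq, hud, ← ZMod.natCast_eq_natCast_iff] at h1
    simpa using h1
  have hOcard : O.card = 2 * m := by
    rw [hO, Finset.card_image_of_injOn hinjO, Finset.card_range]
  have hcount : ∀ y ∈ O, R.count y = R.count x := by
    intro y hy
    obtain ⟨i, -, rfl⟩ := Finset.mem_image.1 hy
    induction i with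
    | zero => simp
    | succ i ih =>
      have h1 := Multiset.count_map_eq_count' σ R σ.injective (x ^ q ^ i)
      rw [hRfrob, hσ, ← pow_mul, ← pow_succ] at h1
      by_cases hmem : x ^ q ^ i ∈ O
      · rw [h1, ih hmem]
      · exact absurd (Finset.mem_image.2 ⟨i, Finset.mem_range.2 (by
          by_contra hge
          exact hmem (Finset.mem_image.2 ⟨i % (2 * m), Finset.mem_range.2 (Nat.mod_lt _ (by omega)),
            by
              have h3 : u ^ (q ^ (i % (2 * m))) = u ^ (q ^ i) := by
                rw [pow_eq_pow_iff_modEq, hud, ← ZMod.natCast_eq_natCast_iff, ← hmd]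
                push_cast
                rw [pow_mod_orderOf]
              simpa [hu] using congrArg Units.val h3⟩)), rfl⟩) hmem
  have hx1 : 1 ≤ R.count x := Multiset.one_le_count_iff_mem.2 hx
  have hcount1 : R.count x = 1 := by
    by_contra hne
    have hle : O.val + O.val ≤ R := Multiset.le_iff_count.2 fun y => by
      rw [Multiset.count_add]
      by_cases hy : y ∈ O
      · rw [Multiset.count_eq_one_of_mem O.nodup hy, hcount y hy]; omega
      · rw [Multiset.count_eq_zero_of_notMem (by simpa using hy)]; simp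
    have h5 := Multiset.card_le_card hle
    rw [Multiset.card_add, Finset.card_val, hOcard, hRcard] at h5
    omega
  have hOR : O.val ≤ R := Multiset.le_iff_count.2 fun y => by
    by_cases hy : y ∈ O
    · rw [Multiset.count_eq_one_of_mem O.nodup hy, hcount y hy]; exact hx1
    · rw [Multiset.count_eq_zero_of_notMem (by simpa using hy)]; simp
  obtain ⟨R', hR'⟩ := Multiset.le_iff_exists_add.1 hOR
  have hR'card : R'.card = 3 := by
    have := congrArg Multiset.card hR'
    rw [Multiset.card_add, Finset.card_val, hOcard, hRcard] at this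
    omega
  have hdisj : ∀ y ∈ R', y ∉ O := fun y hy hyO => by
    have := congrArg (Multiset.count y) hR'
    rw [Multiset.count_add, hcount y hyO, hcount1, Multiset.count_eq_one_of_mem O.nodup hyO] at this
    have := Multiset.one_le_count_iff_mem.2 hy
    omega
  have hxM : x ^ (q ^ m) = x⁻¹ :=
    eq_inv_of_mul_eq_one_left (by rw [← pow_succ]; exact hRM x hx)
  have hOinv : ∀ y ∈ O, y⁻¹ ∈ O := by
    intro y hy
    obtain ⟨i, hi, rfl⟩ := Finset.mem_image.1 hy
    rw [Finset.mem_range] at hi
    refine Finset.mem_image.2 ?_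
    rcases Nat.lt_or_ge i m with him | him
    · refine ⟨i + m, Finset.mem_range.2 (by omega), ?_⟩
      rw [pow_add, mul_comm, pow_mul, hxM, inv_pow]
    · refine ⟨i - m, Finset.mem_range.2 (by omega), ?_⟩
      have e : (x ^ q ^ (i - m))⁻¹ = x ^ q ^ i := by
        rw [← inv_pow, ← hxM, ← pow_mul, ← pow_add, Nat.add_sub_cancel' him]
      rw [← e, inv_inv]
  have hOord : ∀ y ∈ O, orderOf y = d := by
    intro y hy
    obtain ⟨i, -, rfl⟩ := Finset.mem_image.1 hy
    rw [Nat.Coprime.orderOf_pow]
    refine Nat.Coprime.pow_right _ ?_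
    rw [← hd]
    have hMq : Nat.Coprime M q := by
      refine Nat.Coprime.coprime_dvd_right (dvd_pow_self q (show m ≠ 0 by omega)) ?_
      rw [hM, Nat.coprime_self_add_left]
      exact Nat.coprime_one_left _
    exact hMq.coprime_dvd_left hdM
  have hd3 : 3 ≤ d := le_trans (by have := hr.two_le; omega) (Nat.le_of_dvd hd0 hrd')
  have hone : (1 : L) ∉ O := fun h => by
    have := hOord 1 h
    rw [orderOf_one] at this
    omega
  have hnegone : (-1 : L) ∉ O := fun h => by
    have := hOord (-1) h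
    have h3 : orderOf (-1 : L) ∣ 2 := orderOf_dvd_of_pow_eq_one (by ring)
    have := Nat.le_of_dvd two_pos h3
    omega
  have hOprod : O.val.prod = 1 := by
    have : O.prod id = x ^ ∑ i ∈ Finset.range (2 * m), q ^ i := by
      rw [hO, Finset.prod_image hinjO, ← Finset.prod_pow_eq_pow_sum]
      rfl
    rw [← Multiset.map_id' O.val]
    refine this.trans ?_
    rw [sum_range_two_mul_pow, mul_comm, pow_mul, hRM x hx, one_pow]
  have hR'prod : R'.prod = 1 := by
    rw [hR', Multiset.prod_add, hOprod, one_mul] at hRprod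
    exact hRprod
  have hUL : Commute AL (U.map f) := hAU.map f.mapMatrix
  have hULp : (U.map f) ^ p = 1 := by
    rw [← RingHom.mapMatrix_apply, ← map_pow, hUp, map_one]
  have hdup : ¬ R'.Nodup := fun hnd => by
    have hRnd : R.Nodup := hR' ▸ Multiset.nodup_add.2 ⟨O.nodup, hnd,
      Multiset.disjoint_left.2 fun hy hy' => hdisj _ hy' hy⟩
    exact hU1 (Matrix.map_injective f.injective
      ((eq_one_of_commute_of_nodup p AL (U.map f) hUL hULp hRnd).trans
        (Matrix.map_one f (map_zero f) (map_one f)).symm))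
  obtain ⟨a, b, hab⟩ : ∃ a b, R' = a ::ₘ a ::ₘ b ::ₘ 0 := by
    obtain ⟨u, v, w, rfl⟩ := Multiset.card_eq_three.1 hR'card
    by_cases huv : u = v
    · exact ⟨u, w, by subst huv; rfl⟩
    by_cases huw : u = w
    · exact ⟨u, v, by subst huw; simp [Multiset.insert_eq_cons, ← Multiset.cons_zero, Multiset.cons_swap v]⟩
    by_cases hvw : v = w
    · refine ⟨v, u, ?_⟩
      subst hvw
      simp [Multiset.insert_eq_cons, ← Multiset.cons_zero, Multiset.cons_swap u]
    exact absurd (by simp [huv, huw, hvw]) hdup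
  have habp : a * a * b = 1 := by
    rw [← hR'prod, hab]; simp [mul_assoc]
  have hainv : a⁻¹ = a ∨ a⁻¹ = b := by
    have haR : a ∈ R := by rw [hR', hab]; simp
    have h1 := hRinv a haR
    rw [hR', Multiset.mem_add, hab] at h1
    rcases h1 with h1 | h1
    · have := hOinv _ h1
      rw [inv_inv] at this
      exact absurd this (hdisj a (by rw [hab]; simp))
    · simp at h1; tauto
  have ha0 : a ≠ 0 := by
    rintro rfl
    simp at habp
  have hab1 : b = 1 ∧ (a = 1 ∨ a = -1) := by
    rcases hainv with h | h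
    · have h1 : a * a = 1 := by nth_rw 2 [← h]; exact mul_inv_cancel₀ ha0
      exact ⟨by rwa [h1, one_mul] at habp, mul_self_eq_one_iff.1 h1⟩
    · have h1 : a = 1 := by rwa [← h, mul_assoc, mul_inv_cancel₀ ha0, mul_one] at habp
      exact ⟨by rw [h1, one_mul, one_mul] at habp; exact habp, Or.inl h1⟩
  obtain ⟨rfl, hacase⟩ := hab1
  -- decomposition at `a`
  obtain ⟨c, hca, hcc⟩ : ∃ c : F, f c = a ∧ c * c = 1 := by
    rcases hacase with rfl | rfl
    · exact ⟨1, map_one f, one_mul 1⟩
    · exact ⟨-1, by rw [map_neg, map_one], by ring⟩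
  obtain ⟨k, l, P, P', A₂, hPP, hPP', hAP, hA₂⟩ := exists_blocks A hMF hAM c
  set D := fromBlocks (c • (1 : Matrix (Fin k) (Fin k) F)) 0 0 A₂ with hD
  have hA2c : a ∉ (A₂.map f).charpoly.roots := fun h => by
    rw [mem_roots (Matrix.charpoly_monic _).ne_zero, Matrix.charpoly_map, ← hca, IsRoot,
      Polynomial.eval_map, Polynomial.eval₂_at_apply, map_eq_zero, Matrix.eval_charpoly,
      Matrix.scalar_apply, ← Matrix.smul_one_eq_diagonal, ← neg_sub, Matrix.det_neg] at h
    exact hA₂ ((mul_eq_zero.1 h).resolve_left (pow_ne_zero _ (by norm_num)))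
  have hRblocks : R = Multiset.replicate k a + (A₂.map f).charpoly.roots := by
    rw [hR, hAL, Matrix.charpoly_map, charpoly_blocks hPP hPP' hAP, Polynomial.map_mul,
      Polynomial.map_pow, Polynomial.map_sub, map_X, map_C, hca, ← Matrix.charpoly_map,
      roots_mul (mul_ne_zero (pow_ne_zero _ (X_sub_C_ne_zero a)) (Matrix.charpoly_monic _).ne_zero),
      roots_pow, roots_X_sub_C, Multiset.nsmul_singleton]
  have hR2 : (A₂.map f).charpoly.roots = R.filter (fun y => ¬ y = a) := by
    rw [hRblocks, Multiset.filter_add, Multiset.filter_eq_nil.2 (fun y hy => by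
      simp [Multiset.eq_of_mem_replicate hy]), zero_add, Multiset.filter_eq_self.2]
    exact fun y hy h => hA2c (h ▸ hy)
  have haO : a ∉ O := hdisj a (by rw [hab]; simp)
  have hR2' : (A₂.map f).charpoly.roots = O.val + R'.filter (fun y => ¬ y = a) := by
    rw [hR2, hR', Multiset.filter_add, Multiset.filter_eq_self.2]
    exact fun y hy h => haO (h ▸ hy)
  have hUcomm : Commute D (P' * U * P) := by
    show D * (P' * U * P) = P' * U * P * D
    have e : P' * A = D * P' := by
      calc P' * A = P' * A * (P * P') := by rw [hPP', Matrix.mul_one]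
        _ = P' * (A * P) * P' := by simp only [Matrix.mul_assoc]
        _ = D * P' := by rw [hAP, ← Matrix.mul_assoc, hPP, Matrix.one_mul]
    calc D * (P' * U * P) = P' * (A * U) * P := by
          rw [← Matrix.mul_assoc, ← Matrix.mul_assoc, ← e]; simp only [Matrix.mul_assoc]
      _ = P' * (U * A) * P := by rw [hAU.eq]
      _ = P' * U * P * D := by simp only [Matrix.mul_assoc, hAP]
  set G' := Pᵀ * G * P with hG'
  have hG'det : G'.det ≠ 0 := by
    intro h0
    have h1 : G' * (P' * G⁻¹ * P'ᵀ) = 1 := by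
      calc G' * (P' * G⁻¹ * P'ᵀ) = Pᵀ * (G * ((P * P') * G⁻¹)) * P'ᵀ := by
            rw [hG']; simp only [Matrix.mul_assoc]
        _ = (P' * P)ᵀ := by
            rw [hPP', Matrix.one_mul, Matrix.mul_nonsing_inv _ (Ne.isUnit hGdet), Matrix.mul_one,
              Matrix.transpose_mul]
        _ = 1 := by rw [hPP, Matrix.transpose_one]
    have h3 := congrArg Matrix.det h1
    rw [Matrix.det_mul, h0, zero_mul, Matrix.det_one] at h3
    exact zero_ne_one h3
  have hDG : Dᵀ * G' * D = G' := by
    calc Dᵀ * G' * D = (P * D)ᵀ * G * (P * D) := by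
          rw [hG', Matrix.transpose_mul]; simp only [Matrix.mul_assoc]
      _ = Pᵀ * (Aᵀ * G * A) * P := by
          rw [← hAP, Matrix.transpose_mul]; simp only [Matrix.mul_assoc]
      _ = G' := by rw [hAG, hG']
  obtain ⟨hG'b, hA2G⟩ := (blocks_offdiag hA₂ G').2 hcc hDG
  set G₁ := G'.toBlocks₁₁ with hG1
  set G₂ := G'.toBlocks₂₂ with hG2
  have hGdets : G₁.det ≠ 0 ∧ G₂.det ≠ 0 := by
    rw [hG'b, Matrix.det_fromBlocks_zero₁₂, mul_ne_zero_iff] at hG'det
    exact hG'det
  have hG's : G'ᵀ = G' := by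
    rw [hG', Matrix.transpose_mul, Matrix.transpose_mul, Matrix.transpose_transpose, hGs,
      Matrix.mul_assoc]
  have hG12s : G₁ᵀ = G₁ ∧ G₂ᵀ = G₂ := by
    rw [hG'b, fromBlocks_transpose, fromBlocks_inj] at hG's
    exact ⟨hG's.1, hG's.2.2.2⟩
  rcases hacase with rfl | rfl
  · -- all three remaining eigenvalues are one: the spinor norm is not a square
    have hc1 : c = 1 := f.injective (hca.trans (map_one f).symm)
    subst hc1
    have hR2O : (A₂.map f).charpoly.roots = O.val := by
      rw [hR2', hab, Multiset.filter_eq_nil.2 (by simp), add_zero]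
    have hAd : AL ^ d = 1 := pow_eq_one_of_roots AL hMapf hALM hd0 fun y hy => by
      rw [← hR, hR', hab, Multiset.mem_add] at hy
      rcases hy with hy | hy
      · rw [← hOord y hy, pow_orderOf_eq_one]
      · simp at hy; rw [hy, one_pow]
    have hdeq : d = M := Nat.dvd_antisymm hdM (hAord d (Matrix.map_injective f.injective (by
      show f.mapMatrix (A ^ d) = f.mapMatrix 1
      rw [map_pow, RingHom.mapMatrix_apply, ← hAL, hAd, map_one])))
    have hA2det : A₂.det = 1 := f.injective (by
      rw [RingHom.map_det, RingHom.mapMatrix_apply, Matrix.det_eq_prod_roots_charpoly, hR2O,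
        hOprod, map_one])
    have hl : l = 2 * m := by
      have := Matrix.charpoly_natDegree_eq_dim (A₂.map f)
      rw [← Polynomial.splits_iff_card_roots.1 (IsAlgClosed.splits _), hR2O, Finset.card_val,
        hOcard, Fintype.card_fin] at this
      exact this.symm
    set X := P * (1 - D) with hX
    have hXcol : ∀ j : Fin k ⊕ Fin l, (fun a => X a j) =
        (fun a => P a j) - A *ᵥ (fun a => P a j) := by
      intro j
      rw [hX, Matrix.mul_sub, Matrix.mul_one, ← hAP]
      rfl
    have hXinl : ∀ (a : ι) (j : Fin k), X a (Sum.inl j) = 0 := by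
      intro a j
      rw [hX, Matrix.mul_apply]
      refine Finset.sum_eq_zero fun i _ => ?_
      rcases i with i | i
      · simp [hD, Matrix.one_apply]
      · simp [hD, Matrix.one_apply]
    have hXv : ∀ v : Fin k ⊕ Fin l → F,
        X *ᵥ v = ∑ i : Fin l, v (Sum.inr i) • (fun a => X a (Sum.inr i)) := by
      intro v
      funext a
      simp [Matrix.mulVec, dotProduct, Fintype.sum_sum_type, hXinl, mul_comm, Finset.sum_apply]
    have hwall : IsWallDet hQ ((g ^ p : Cfsg.isometryGroup F Q) : GL ι F) ((1 - A₂)ᵀ * G₂).det := by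
      refine ⟨l, fun i a => P a (Sum.inr i), ?_, ?_, ?_⟩
      · rw [Fintype.linearIndependent_iff]
        intro v hv
        have h1 : X *ᵥ (Sum.elim 0 v) = 0 := by
          rw [hXv, ← hv]
          simp only [Sum.elim_inr]
          exact Finset.sum_congr rfl fun i _ => by rw [hXcol]
        have h3 : (1 - D) *ᵥ (Sum.elim 0 v) = 0 := by
          calc (1 - D) *ᵥ (Sum.elim 0 v) = (P' * X) *ᵥ (Sum.elim 0 v) := by
                rw [hX, ← Matrix.mul_assoc, hPP, Matrix.one_mul]
            _ = 0 := by rw [← Matrix.mulVec_mulVec, h1, Matrix.mulVec_zero]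
        rw [hD, ← Matrix.fromBlocks_one, sub_eq_add_neg, Matrix.fromBlocks_neg, Matrix.fromBlocks_add, Matrix.fromBlocks_mulVec] at h3
        have h4 : (A₂ - (1 : F) • 1) *ᵥ v = 0 := by
          funext i
          have := congrFun h3 (Sum.inr i)
          simp [Matrix.sub_mulVec, Matrix.add_mulVec, Matrix.neg_mulVec, sub_eq_add_neg] at this ⊢
          linear_combination -this
        exact congrFun (Matrix.eq_zero_of_mulVec_eq_zero hA₂ h4)
      · refine le_antisymm (Submodule.span_le.2 ?_) fun z hz => ?_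
        · rintro _ ⟨i, rfl⟩
          exact sub_mem_residual _ _
        · obtain ⟨y, rfl⟩ := mem_residual.1 hz
          have h1 : y - A *ᵥ y = X *ᵥ (P' *ᵥ y) := by
            rw [hX, Matrix.mul_sub, Matrix.mul_one, ← hAP, Matrix.sub_mulVec, Matrix.mulVec_mulVec,
              Matrix.mulVec_mulVec, Matrix.mul_assoc, hPP', Matrix.mul_one, Matrix.one_mulVec]
          show y - A *ᵥ y ∈ _
          rw [h1, hXv]
          refine Submodule.sum_mem _ fun i _ => Submodule.smul_mem _ _ (Submodule.subset_span ⟨i, ?_⟩)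
          exact (hXcol _).symm
      · congr 1
        ext i j
        rw [Matrix.of_apply]
        show bform hQ ((fun a => P a (Sum.inr i)) - A *ᵥ (fun a => P a (Sum.inr i))) _ = _
        rw [← hXcol, hentry]
        have : Xᵀ * G * P = (1 - D)ᵀ * G' := by
          rw [hX, hG', Matrix.transpose_mul]; simp only [Matrix.mul_assoc]
        rw [this, hG'b, hD, ← Matrix.fromBlocks_one, sub_eq_add_neg, Matrix.fromBlocks_neg, Matrix.fromBlocks_add, fromBlocks_transpose,
          fromBlocks_multiply, fromBlocks_apply₂₂]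
        simp [sub_eq_add_neg]
    obtain ⟨-, hspin⟩ := (mem_omega_iff hQ hexc (g ^ p)).1 (pow_mem hg p)
    have hWsq : IsSquare ((1 - A₂)ᵀ * G₂).det :=
      (isWallDet_unique hQ (g ^ p : Cfsg.isometryGroup F Q).2 hwall (isWallDet_spinor hQ _)).isSquare_iff.1
        hspin
    have hA2u : IsUnit A₂.det := hA2det ▸ isUnit_one
    have e1 : A₂ᵀ * G₂ = G₂ * A₂⁻¹ := by
      calc A₂ᵀ * G₂ = A₂ᵀ * G₂ * (A₂ * A₂⁻¹) := by
            rw [Matrix.mul_nonsing_inv _ hA2u, Matrix.mul_one]
        _ = G₂ * A₂⁻¹ := by rw [← Matrix.mul_assoc, hA2G]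
    have e2 : (A₂⁻¹)ᵀ * G₂ = G₂ * A₂ := by
      have := congrArg (fun Z => (A₂⁻¹)ᵀ * Z) hA2G
      simp only [← Matrix.mul_assoc] at this
      rw [← this, ← Matrix.transpose_mul, Matrix.mul_nonsing_inv _ hA2u, Matrix.transpose_one,
        Matrix.one_mul]
    have hK : ((A₂ - A₂⁻¹)ᵀ * G₂)ᵀ = -((A₂ - A₂⁻¹)ᵀ * G₂) := by
      rw [Matrix.transpose_mul, Matrix.transpose_transpose, hG12s.2, Matrix.transpose_sub,
        Matrix.sub_mul, Matrix.mul_sub, e1, e2, neg_sub]
    have hKsq := (isSquare_det_alternating h2 _ hK).mul hWsq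
    have hprod : ((A₂ - A₂⁻¹)ᵀ * G₂).det * ((1 - A₂)ᵀ * G₂).det =
        (-1 - A₂).det * (G₂.det * (1 - A₂).det) ^ 2 := by
      have e3 : (A₂ - A₂⁻¹) * A₂ = (1 - A₂) * (-1 - A₂) := by
        rw [Matrix.sub_mul, Matrix.nonsing_inv_mul _ hA2u]; noncomm_ring
      have e4 : (A₂ - A₂⁻¹).det = (1 - A₂).det * (-1 - A₂).det := by
        rw [← Matrix.det_mul, ← e3, Matrix.det_mul, hA2det, mul_one]
      rw [Matrix.det_mul, Matrix.det_mul, Matrix.det_transpose, Matrix.det_transpose, e4]
      ring
    have h1A : (1 - A₂).det ≠ 0 := by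
      rw [← neg_sub, Matrix.det_neg]
      exact mul_ne_zero (pow_ne_zero _ (by norm_num)) (by simpa using hA₂)
    have he : IsSquare (-1 - A₂).det := by
      rw [hprod] at hKsq
      exact (SqClassEq.isSquare_iff (b := (-1 - A₂).det)
        ⟨G₂.det * (1 - A₂).det, mul_ne_zero hGdets.2 h1A, mul_comm _ _⟩).1 hKsq
    refine not_isSquare_norm (L := L) h2L (m := m) (by omega) hhq (by omega) (x := x) (hd.symm.trans (hdeq.trans hM)) ?_ he
    have e5 : (-1 - A₂).det = A₂.charpoly.eval (-1) := by
      rw [Matrix.eval_charpoly]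
      simp [Matrix.scalar_apply, ← Matrix.diagonal_one, Matrix.diagonal_neg]
    rw [e5, ← Polynomial.eval₂_at_apply, ← Polynomial.eval_map, ← Matrix.charpoly_map, map_neg, map_one,
      (IsAlgClosed.splits _).eq_prod_roots_of_monic (Matrix.charpoly_monic _), hR2O,
      Polynomial.eval_multiset_prod, Multiset.map_map]
    show ∏ y ∈ O, eval (-1) (Polynomial.X - Polynomial.C y) = _
    rw [hO, Finset.prod_image hinjO]
    simp only [eval_sub, eval_X, eval_C]
    rw [show (fun i => -1 - x ^ q ^ i) = fun i => (-1 : L) * (1 + x ^ q ^ i) from funext fun i => by ring,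
      Finset.prod_mul_distrib, Finset.prod_const, Finset.card_range,
      Even.neg_one_pow (even_two_mul m), one_mul]
  · -- a two-dimensional eigenspace of `-1` is centralized by no transformation of order `p`
    have hne : (1 : L) ≠ -1 := fun h =>
      h2L (by linear_combination h)
    have hR2O : (A₂.map f).charpoly.roots = O.val + {1} := by
      rw [hR2', hab]
      simp [hne, Multiset.filter_cons]
    have hk2 : k ≤ 2 := by
      have h1 := congrArg (Multiset.count (-1 : L)) hRblocks
      rw [Multiset.count_add, Multiset.count_replicate_self,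
        Multiset.count_eq_zero_of_notMem hA2c, hR', hab, Multiset.count_add,
        Multiset.count_eq_zero_of_notMem (by simpa using hnegone)] at h1
      simp [hne.symm] at h1
      omega
    obtain ⟨hUb, hU2c⟩ := (blocks_offdiag hA₂ (P' * U * P)).1 hUcomm
    set U₁ := (P' * U * P).toBlocks₁₁
    set U₂ := (P' * U * P).toBlocks₂₂
    have hUpow : ∀ n : ℕ, (P' * U * P) ^ n = P' * U ^ n * P := by
      intro n
      induction n with
      | zero => simp [hPP]
      | succ n ih =>
        rw [pow_succ, ih, pow_succ]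
        calc P' * U ^ n * P * (P' * U * P) = P' * (U ^ n * ((P * P') * U)) * P := by
              simp only [Matrix.mul_assoc]
          _ = P' * (U ^ n * U) * P := by rw [hPP', Matrix.one_mul]
    have hUblk : ∀ n : ℕ, (fromBlocks U₁ 0 0 U₂) ^ n = fromBlocks (U₁ ^ n) 0 0 (U₂ ^ n) := by
      intro n
      induction n with
      | zero => simp [Matrix.fromBlocks_one]
      | succ n ih => simp [pow_succ, ih, Matrix.fromBlocks_multiply]
    obtain ⟨hU1p, -, -, hU2p⟩ := fromBlocks_inj.1 (show fromBlocks (U₁ ^ p) 0 0 (U₂ ^ p) =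
        fromBlocks 1 0 0 1 by
      rw [← hUblk, ← hUb, hUpow, hUp, Matrix.mul_one, hPP, Matrix.fromBlocks_one])
    have hU2 : U₂ = 1 := Matrix.map_injective f.injective
      ((eq_one_of_commute_of_nodup p (A₂.map f) (U₂.map f) (hU2c.map f.mapMatrix)
        (by rw [← RingHom.mapMatrix_apply, ← map_pow, hU2p, map_one])
        (by
          rw [hR2O]
          exact Multiset.nodup_add.2 ⟨O.nodup, Multiset.nodup_singleton 1,
            Multiset.disjoint_left.2 fun hy hy' => hone (by
              rw [Multiset.mem_singleton] at hy'; exact hy' ▸ hy)⟩)).trans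
        (Matrix.map_one f (map_zero f) (map_one f)).symm)
    have hUG' : (P' * U * P)ᵀ * G' * (P' * U * P) = G' := by
      calc (P' * U * P)ᵀ * G' * (P' * U * P)
          = Pᵀ * (Uᵀ * ((P * P')ᵀ * (G * ((P * P') * U)))) * P := by
            simp only [hG', Matrix.transpose_mul, Matrix.mul_assoc]
        _ = G' := by
            rw [hPP', Matrix.transpose_one, Matrix.one_mul, Matrix.one_mul, ← Matrix.mul_assoc Uᵀ,
              hUG, hG']
    rw [hUb, hG'b, fromBlocks_transpose, fromBlocks_multiply, fromBlocks_multiply, fromBlocks_inj]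
      at hUG'
    have hU1G : U₁ᵀ * G₁ * U₁ = G₁ := by simpa using hUG'.1
    have hU1one := eq_one_of_small_orthogonal h2 p hk2 hG12s.1 hGdets.1 hU1G hU1p
    refine hU1 ?_
    calc U = (P * P') * U * (P * P') := by rw [hPP', Matrix.one_mul, Matrix.mul_one]
      _ = P * (P' * U * P) * P' := by simp only [Matrix.mul_assoc]
      _ = 1 := by rw [hUb, hU1one, hU2, Matrix.fromBlocks_one, Matrix.mul_one, hPP']

end CfsgLib.Spec53
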