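import Mathlib
import Cfsg.Agent.Spec53.EigenOrbits
import Cfsg.Agent.Spec53.Sp4Lower
import Cfsg.Agent.Classical.Symp.Card
import Cfsg.Agent.Classical.Symp.Simple
import Cfsg.Agent.CommutingOrderP.Basic

/-!
The prime graph of `PSp₂ₙ(q)`.
-/

set_option autoImplicit false

namespace CfsgLib.Spec53

open Matrix Polynomial CfsgLib.Classical.Symp CfsgLib.Classical.Semisimple

variable {F : Type*} [Field F] [Fintype F] {n : ℕ}

local notation "Sp" => Matrix.symplecticGroup (Fin n) F
local notation "qF" => Fintype.card F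

theorem natCast_ne_zero_of_prime_ne {p r : ℕ} [Fact p.Prime] [CharP F p] (hr : r.Prime)
    (h : r ≠ p) : (r : F) ≠ 0 := fun h0 =>
  h ((Nat.prime_dvd_prime_iff_eq Fact.out hr).1 ((CharP.cast_eq_zero_iff F p r).1 h0)).symm

theorem card_coprime_of_ne_zero {d : ℕ} (hd : (d : F) ≠ 0) : Nat.Coprime qF d := by
  obtain ⟨p, hp⟩ := CharP.exists F
  haveI := hp
  obtain ⟨e, hprime, he⟩ := FiniteField.card F p
  rw [he]
  refine Nat.Coprime.pow_left _ ((hprime.coprime_iff_not_dvd).2 fun h => hd ?_)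
  exact (CharP.cast_eq_zero_iff F p d).2 h

theorem coprime_center_Sp {d : ℕ} (hd : Odd d ∨ (2 : F) = 0) :
    Nat.Coprime d (Nat.card (Subgroup.center Sp)) := by
  by_cases h2 : (2 : F) = 0
  · rw [card_center_of_two_eq_zero h2]; exact Nat.coprime_one_right d
  rcases hd with hd | hd
  · rcases Nat.eq_zero_or_pos n with rfl | hn
    · have : Subsingleton (Matrix.symplecticGroup (Fin 0) F) :=
        ⟨fun a b => Subtype.ext (Matrix.ext fun i => by cases i <;> exact Fin.elim0 ‹Fin 0›)⟩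
      rw [Nat.card_unique]; exact Nat.coprime_one_right d
    · rw [card_center_of_two_ne_zero hn h2]; exact Nat.coprime_two_right.2 hd
  · exact absurd hd h2

/-- Elements of order prime to the centre pass to the quotient. -/
theorem exists_psp_of_sp {d : ℕ} (hd : Nat.Coprime d (Nat.card (Subgroup.center Sp))) (g : Sp)
    (hg : orderOf g = d) : ∃ x : Cfsg.PSp n F, orderOf x = d := by
  refine ⟨QuotientGroup.mk g, Nat.dvd_antisymm ?_ ?_⟩
  · refine orderOf_dvd_of_pow_eq_one ?_
    rw [← QuotientGroup.mk_pow, ← hg, pow_orderOf_eq_one, QuotientGroup.mk_one]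
  · set k := orderOf (QuotientGroup.mk g : Cfsg.PSp n F) with hk
    have hmem : g ^ k ∈ Subgroup.center Sp := by
      rw [← QuotientGroup.eq_one_iff, QuotientGroup.mk_pow, hk, pow_orderOf_eq_one]
    have h1 : g ^ (k * Nat.card (Subgroup.center Sp)) = 1 := by
      rw [pow_mul]
      exact congrArg Subtype.val (pow_card_eq_one' (x := (⟨g ^ k, hmem⟩ : Subgroup.center Sp)))
    rw [← orderOf_dvd_iff_pow_eq_one, hg] at h1
    exact hd.dvd_of_dvd_mul_right h1

theorem exists_sp_of_psp {d : ℕ} (hd : Nat.Coprime d (Nat.card (Subgroup.center Sp)))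
    (x : Cfsg.PSp n F) (hx : orderOf x = d) : ∃ g : Sp, orderOf g = d := by
  obtain ⟨g, hg, hgx, hgo⟩ := CfsgLib.CommutingOrderP.exists_lift_pow (Subgroup.center Sp) hd x hx
  refine ⟨g, Nat.dvd_antisymm (orderOf_dvd_of_pow_eq_one hg) ?_⟩
  rw [← hgo, ← hgx]
  refine orderOf_dvd_of_pow_eq_one ?_
  rw [← QuotientGroup.mk_pow, pow_orderOf_eq_one, QuotientGroup.mk_one]

theorem exists_prime_sp {r : ℕ} [hr : Fact r.Prime] (h : r ∣ Nat.card (Cfsg.PSp n F)) :
    ∃ g : Sp, orderOf g = r := by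
  refine exists_prime_orderOf_dvd_card' r (h.trans ?_)
  rw [Subgroup.card_eq_card_quotient_mul_card_subgroup (Subgroup.center Sp)]
  exact dvd_mul_right _ _

/-- Two elements in orthogonal blocks. -/
theorem exists_block_orderOf {a b : ℕ} (hab : a + b ≤ n) (g : Matrix.symplecticGroup (Fin a) F)
    (h : Matrix.symplecticGroup (Fin b) F) : ∃ x : Sp, orderOf x = Nat.lcm (orderOf g) (orderOf h) := by
  obtain ⟨c, rfl⟩ := Nat.exists_eq_add_of_le hab
  refine ⟨Blocks.blockSp (a + b) c F (Blocks.blockSp a b F (g, h), 1), ?_⟩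
  rw [orderOf_injective _ Blocks.blockSp_injective, Prod.orderOf, orderOf_injective _ Blocks.blockSp_injective,
    Prod.orderOf, orderOf_one, Nat.lcm_one_right]

theorem exists_small_sp_of_dvd {a r : ℕ} [hr : Fact r.Prime] (ha : 0 < a)
    (h : r ∣ qF ^ (2 * a) - 1) : ∃ g : Matrix.symplecticGroup (Fin a) F, orderOf g = r := by
  refine exists_prime_orderOf_dvd_card' r ?_
  rw [card_symplecticGroup]
  refine Dvd.dvd.mul_left (h.trans ?_) _
  refine dvd_trans ?_ (Finset.dvd_prod_of_mem _ (Finset.mem_range.2 (show a - 1 < a by omega)))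
  rw [Nat.sub_add_cancel ha]

theorem exists_small_sp_char {b p : ℕ} [hp : Fact p.Prime] [CharP F p] (hb : 0 < b) :
    ∃ g : Matrix.symplecticGroup (Fin b) F, orderOf g = p := by
  refine exists_prime_orderOf_dvd_card' p ?_
  rw [card_symplecticGroup]
  obtain ⟨e, -, he⟩ := FiniteField.card F p
  refine Dvd.dvd.mul_right ?_ _
  rw [he, ← pow_mul]
  exact dvd_pow_self p (Nat.mul_ne_zero e.ne_zero (by positivity))

/-- An element generating a cyclic maximal torus. -/
theorem exists_torus_sp {D d : ℕ} (hD : 0 < D) (hd : d ∣ qF ^ D - 1 ∨ d ∣ qF ^ D + 1) :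
    ∃ g : Matrix.symplecticGroup (Fin D) F, orderOf g = d := by
  classical
  obtain ⟨p, hp⟩ := CharP.exists F
  haveI := hp
  obtain ⟨-, hprime, -⟩ := FiniteField.card F p
  haveI : Fact p.Prime := ⟨hprime⟩
  haveI : NeZero D := ⟨hD.ne'⟩
  let K := FiniteField.Extension F p D
  haveI : Fintype K := Fintype.ofFinite K
  have hfin : Module.finrank F K = D := FiniteField.finrank_extension F p D
  have hK : Fintype.card K = qF ^ D := by rw [Module.card_eq_pow_finrank (K := F), hfin]
  let β := (Module.finBasis F K).reindex (finCongr hfin)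
  obtain ⟨N, hN, hdN⟩ : ∃ N, (N = Fintype.card K - 1 ∨ N = Fintype.card K + 1) ∧ d ∣ N := by
    rw [hK]
    rcases hd with h | h
    exacts [⟨_, .inl rfl, h⟩, ⟨_, .inr rfl, h⟩]
  obtain ⟨s, rfl⟩ := exists_sl2_orderOf_pm hN
  refine ⟨Blocks.sl2ToSp β (s ^ (orderOf s / d)), ?_⟩
  rw [orderOf_injective _ (Blocks.sl2ToSp_injective β), orderOf_pow_orderOf_div (orderOf_pos s).ne' hdN]

/-- An element of order `r` needs `η ≤ n`. -/
theorem eta_le {r k η : ℕ} [Fact r.Prime] (hr2 : r ≠ 2) (hrF : (r : F) ≠ 0)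
    (h : r ∣ Nat.card (Cfsg.PSp n F)) (hk : k = orderOf (qF : ZMod r))
    (hη : (Odd k ∧ η = k) ∨ (Even k ∧ 2 * η = k)) : η ≤ n := by
  classical
  obtain ⟨g, hg⟩ := exists_prime_sp h
  obtain ⟨S, hS, hinv, hq, hN, hne, -⟩ := exists_eigen_finset g hrF (hg ▸ pow_orderOf_eq_one g)
  obtain ⟨x, hx, hx1⟩ := hne 1 (by
    rw [pow_one]; intro h1; rw [h1, orderOf_one] at hg; exact (Fact.out : r.Prime).one_lt.ne hg)
  rw [pow_one] at hx1
  have hxr : orderOf x = r := orderOf_eq_prime (hN x hx) hx1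
  have := prime_orbit_bound S hr2 hinv hq hx hxr (card_coprime_of_ne_zero hrF) hk hη
  omega

/-- No element of order `r s`. -/
theorem not_orderOf_mul {r s k l ηk ηl : ℕ} [Fact r.Prime] [Fact s.Prime] (hr2 : r ≠ 2)
    (hs2 : s ≠ 2) (hrs : r ≠ s) (hrF : (r : F) ≠ 0) (hsF : (s : F) ≠ 0)
    (hk : k = orderOf (qF : ZMod r)) (hl : l = orderOf (qF : ZMod s))
    (hηk : (Odd k ∧ ηk = k) ∨ (Even k ∧ 2 * ηk = k)) (hηl : (Odd l ∧ ηl = l) ∨ (Even l ∧ 2 * ηl = l))
    (hkl : ηk ≤ ηl) (hbig : n < ηk + ηl) (hdiv : ¬ ∃ t, Odd t ∧ l = k * t) (g : Sp) :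
    orderOf g ≠ r * s := by
  classical
  intro hg
  have hr : r.Prime := Fact.out
  have hs : s.Prime := Fact.out
  have hrsF : ((r * s : ℕ) : F) ≠ 0 := by rw [Nat.cast_mul]; exact mul_ne_zero hrF hsF
  obtain ⟨S, hS, hinv, hq, hN, hne, -⟩ :=
    exists_eigen_finset g hrsF (hg ▸ pow_orderOf_eq_one g)
  have hl0 : 0 < l := hl ▸ orderOf_card_pos hsF
  have hk0 : 0 < k := hk ▸ orderOf_card_pos hrF
  by_cases hbad : ∃ x ∈ S, orderOf x = r * s
  · obtain ⟨x, hx, hxo⟩ := hbad
    have hco := card_coprime_of_ne_zero hrsF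
    set m := orderOf (qF : ZMod (r * s)) with hm
    have hkm : k ∣ m := by
      rw [hk, hm]
      have := orderOf_map_dvd (ZMod.castHom (dvd_mul_right r s) (ZMod r)).toMonoidHom
        (qF : ZMod (r * s))
      simpa [map_natCast] using this
    have hlm : l ∣ m := by
      rw [hl, hm]
      have := orderOf_map_dvd (ZMod.castHom (dvd_mul_left s r) (ZMod s)).toMonoidHom
        (qF : ZMod (r * s))
      simpa [map_natCast] using this
    have hm0 : 0 < m := by
      rw [hm]
      haveI : NeZero (r * s) := ⟨Nat.mul_ne_zero hr.ne_zero hs.ne_zero⟩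
      exact orderOf_pos_iff.2 ((ZMod.unitOfCoprime qF hco).isUnit.isOfFinOrder)
    obtain ⟨b, hb⟩ := hlm
    have hb0 : 0 < b := Nat.pos_of_ne_zero fun h => by simp [h] at hb; omega
    rcases orbit_card_bound S hinv hq hx hxo (Nat.mul_pos hr.pos hs.pos) hco with h | ⟨h, i, hi⟩
    · rw [← hm] at h
      rcases hηl with ⟨hlo, hle⟩ | ⟨-, hle⟩
      · have hb1 : b = 1 := by nlinarith
        rw [hb, hb1, mul_one] at hkm
        obtain ⟨t, ht⟩ := hkm
        exact hdiv ⟨t, (Nat.odd_mul.1 (ht ▸ hlo)).2, ht⟩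
      · nlinarith
    · rw [← hm] at h
      have hir : (qF : ZMod r) ^ i = -1 := by
        simpa [map_natCast] using congrArg (ZMod.castHom (dvd_mul_right r s) (ZMod r)) hi
      have his : (qF : ZMod s) ^ i = -1 := by
        simpa [map_natCast] using congrArg (ZMod.castHom (dvd_mul_left s r) (ZMod s)) hi
      obtain ⟨hke, a, ha, hia⟩ := even_orderOf_of_pow_eq_neg_one hr2 hir
      obtain ⟨hle, c, hc, hic⟩ := even_orderOf_of_pow_eq_neg_one hs2 his
      rw [← hk] at hke hia
      rw [← hl] at hle hic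
      have hle' : 2 * ηl = l := by
        rcases hηl with ⟨h', -⟩ | ⟨-, h'⟩
        exacts [absurd hle (Nat.not_even_iff_odd.2 h'), h']
      have hmi : m ∣ 2 * i :=
        orderOf_dvd_of_pow_eq_one (by rw [mul_comm 2 i, pow_mul, hi, neg_one_sq])
      have hbc : b ∣ c := by
        refine Nat.dvd_of_mul_dvd_mul_left hl0 ?_
        rwa [← hb, ← hic]
      have hb1 : b = 1 := by
        obtain ⟨j, hj⟩ := Odd.of_dvd_nat hc hbc
        rcases Nat.eq_zero_or_pos j with rfl | hj0
        · omega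
        · nlinarith
      rw [hb, hb1, mul_one] at hkm
      obtain ⟨t, ht⟩ := hkm
      refine hdiv ⟨t, ?_, ht⟩
      have : t * c = a := by
        refine Nat.eq_of_mul_eq_mul_left hk0 ?_
        rw [← mul_assoc, ← ht, ← hic, ← hia]
      exact (Nat.odd_mul.1 (this ▸ ha)).1
  · push Not at hbad
    have hex : ∀ t u : ℕ, t.Prime → u.Prime → r * s = t * u → ∃ x ∈ S, orderOf x = t := by
      intro t u ht hu htu
      obtain ⟨x, hx, hx1⟩ := hne u (by
        rw [Ne, ← orderOf_dvd_iff_pow_eq_one, hg, htu]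
        intro h1
        have := Nat.le_of_dvd hu.pos h1
        nlinarith [ht.two_le, hu.pos])
      have h1 : orderOf x ∣ t * u := htu ▸ orderOf_dvd_of_pow_eq_one (hN x hx)
      have h2 : ¬ orderOf x ∣ u := fun h => hx1 (orderOf_dvd_iff_pow_eq_one.1 h)
      obtain ⟨d, e, hd, he, hde⟩ := Nat.dvd_mul.1 h1
      rcases (Nat.dvd_prime ht).1 hd with rfl | rfl <;> rcases (Nat.dvd_prime hu).1 he with rfl | rfl
      · exact absurd (by rw [← hde]; simp) h2
      · exact absurd (by rw [← hde, one_mul]) h2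
      · exact ⟨x, hx, by rw [← hde, mul_one]⟩
      · exact absurd (by rw [← hde, htu]) (hbad x hx)
    obtain ⟨x, hx, hxo⟩ := hex r s hr hs rfl
    obtain ⟨y, hy, hyo⟩ := hex s r hs hr (mul_comm r s)
    have hclosed : ∀ t : ℕ, ((t : F) ≠ 0) → ∀ z ∈ S.filter (fun z => orderOf z = t),
        z⁻¹ ∈ S.filter (fun z => orderOf z = t) ∧ z ^ qF ∈ S.filter (fun z => orderOf z = t) := by
      intro t ht z hz
      rw [Finset.mem_filter] at hz
      simp only [Finset.mem_filter]
      have hz0 : z ≠ 0 := by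
        rintro rfl
        rw [orderOf_zero] at hz
        exact ht (by rw [← hz.2]; exact Nat.cast_zero)
      refine ⟨⟨hinv z hz.1, ?_⟩, hq z hz.1, ?_⟩
      · rw [← hz.2]
        conv_rhs => rw [show z = ((Units.mk0 z hz0 : (AlgebraicClosure F)ˣ) : AlgebraicClosure F) from rfl]
        rw [orderOf_units, ← orderOf_inv, ← orderOf_units, Units.val_inv_eq_inv_val]
        rfl
      · rw [Nat.Coprime.orderOf_pow (hz.2.symm ▸ (card_coprime_of_ne_zero ht).symm), hz.2]
    have hS1 := prime_orbit_bound (S.filter fun z => orderOf z = r) (k := k) (η := ηk) hr2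
      (fun z hz => (hclosed r hrF z hz).1) (fun z hz => (hclosed r hrF z hz).2)
      (Finset.mem_filter.2 ⟨hx, hxo⟩) hxo (card_coprime_of_ne_zero hrF) hk hηk
    have hS2 := prime_orbit_bound (S.filter fun z => orderOf z = s) (k := l) (η := ηl) hs2
      (fun z hz => (hclosed s hsF z hz).1) (fun z hz => (hclosed s hsF z hz).2)
      (Finset.mem_filter.2 ⟨hy, hyo⟩) hyo (card_coprime_of_ne_zero hsF) hl hηl
    have hdis : Disjoint (S.filter fun z => orderOf z = r) (S.filter fun z => orderOf z = s) :=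
      Finset.disjoint_filter.2 fun z _ h1 h2 => hrs (h1.symm.trans h2)
    have := Finset.card_le_card (Finset.union_subset (Finset.filter_subset _ S)
      (Finset.filter_subset (fun z => orderOf z = s) S) :
        (S.filter fun z => orderOf z = r) ∪ (S.filter fun z => orderOf z = s) ⊆ S)
    rw [Finset.card_union_of_disjoint hdis] at this
    omega

/-- An element of order `r p` needs `η < n`. -/
theorem not_orderOf_mul_char {p r k η : ℕ} [Fact p.Prime] [CharP F p] [Fact r.Prime] (hr2 : r ≠ 2)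
    (hrp : r ≠ p) (hk : k = orderOf (qF : ZMod r))
    (hη : (Odd k ∧ η = k) ∨ (Even k ∧ 2 * η = k)) (hbig : n ≤ η) (g : Sp) :
    orderOf g ≠ r * p := by
  classical
  intro hg
  have hr : r.Prime := Fact.out
  have hp : p.Prime := Fact.out
  have hrF : (r : F) ≠ 0 := natCast_ne_zero_of_prime_ne hr hrp
  have hyr : orderOf (g ^ p) = r := by
    rw [orderOf_pow' _ hp.ne_zero, hg, Nat.gcd_eq_right (dvd_mul_left p r),
      Nat.mul_div_cancel _ hp.pos]
  have hup : orderOf (g ^ r) = p := by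
    rw [orderOf_pow' _ hr.ne_zero, hg, Nat.gcd_eq_right (dvd_mul_right r p),
      Nat.mul_div_cancel_left _ hr.pos]
  obtain ⟨S, hS, hinv, hq, hN, hne, hroot⟩ :=
    exists_eigen_finset (g ^ p) hrF (hyr ▸ pow_orderOf_eq_one (g ^ p))
  obtain ⟨x, hx, hx1⟩ := hne 1 (by
    rw [pow_one]; intro h1; rw [h1, orderOf_one] at hyr; exact hr.one_lt.ne hyr)
  rw [pow_one] at hx1
  have hcard := prime_orbit_bound S hr2 hinv hq hx (orderOf_eq_prime (hN x hx) hx1)
    (card_coprime_of_ne_zero hrF) hk hη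
  let f := algebraMap F (AlgebraicClosure F)
  let Φ : Sp →* Module.End (AlgebraicClosure F) (Fin n ⊕ Fin n → (AlgebraicClosure F)) :=
    ((Matrix.toLinAlgEquiv' : Matrix (Fin n ⊕ Fin n) (Fin n ⊕ Fin n) (AlgebraicClosure F) ≃ₐ[(AlgebraicClosure F)] _).toMonoidHom.comp
      f.mapMatrix.toMonoidHom).comp (Submonoid.subtype _)
  have hev : ∀ z : S, ∃ v, Module.End.HasEigenvector (Φ (g ^ p)) (z : (AlgebraicClosure F)) v := fun z => by
    refine Module.End.HasEigenvalue.exists_hasEigenvector ?_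
    rw [Module.End.hasEigenvalue_iff_isRoot_charpoly]
    show (Matrix.toLin' (((g ^ p : Sp) : Matrix (Fin n ⊕ Fin n) (Fin n ⊕ Fin n) F).map f)).charpoly.IsRoot _
    rw [Matrix.charpoly_toLin']
    exact hroot z z.2
  choose v hv using hev
  have hli := Module.End.eigenvectors_linearIndependent' (Φ (g ^ p)) (fun z : S => (z : (AlgebraicClosure F)))
    Subtype.val_injective v hv
  haveI : Nonempty S := ⟨⟨x, hx⟩⟩
  let b := basisOfLinearIndependentOfCardEqFinrank hli (by
    rw [Module.finrank_pi, Fintype.card_sum, Fintype.card_fin, Fintype.card_coe]; omega)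
  have hb : ∀ z, Φ (g ^ p) (b z) = (z : (AlgebraicClosure F)) • b z := fun z => by
    rw [coe_basisOfLinearIndependentOfCardEqFinrank]
    exact (hv z).apply_eq_smul
  have hU : Φ (g ^ r) = 1 := by
    have hcomm : Commute (Φ (g ^ p)) (Φ (g ^ r)) := ((Commute.refl g).pow_pow p r).map Φ
    haveI : CharP (AlgebraicClosure F) p := AlgebraicClosure.instCharP F
    refine b.ext fun z => ?_
    have h1 : ∀ w : S, w ≠ z → b.repr (Φ (g ^ r) (b z)) w = 0 := by
      intro w hw
      have e1 : Φ (g ^ p) (Φ (g ^ r) (b z)) = (z : (AlgebraicClosure F)) • Φ (g ^ r) (b z) := by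
        rw [← Module.End.mul_apply, hcomm.eq, Module.End.mul_apply, hb, map_smul]
      have e2 : Φ (g ^ p) (Φ (g ^ r) (b z)) =
          ∑ j, (b.repr (Φ (g ^ r) (b z)) j * (j : (AlgebraicClosure F))) • b j := by
        conv_lhs => rw [← b.sum_repr (Φ (g ^ r) (b z)), map_sum]
        exact Finset.sum_congr rfl fun j _ => by rw [map_smul, hb, smul_smul]
      rw [e1] at e2
      have e3 := DFunLike.congr_fun (congrArg b.repr e2) w
      rw [map_smul, Finsupp.smul_apply, b.repr_sum_self, smul_eq_mul] at e3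
      have e4 : b.repr (Φ (g ^ r) (b z)) w * ((w : (AlgebraicClosure F)) - z) = 0 := by linear_combination -e3
      exact (mul_eq_zero.1 e4).resolve_right (sub_ne_zero.2 fun h => hw (Subtype.ext h))
    set c := b.repr (Φ (g ^ r) (b z)) z
    have h2 : Φ (g ^ r) (b z) = c • b z := by
      conv_lhs => rw [← b.sum_repr (Φ (g ^ r) (b z))]
      refine Finset.sum_eq_single_of_mem z (Finset.mem_univ z) fun w _ hw => ?_
      rw [h1 w hw, zero_smul]
    have h3 : ∀ j, (Φ (g ^ r) ^ j) (b z) = c ^ j • b z := by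
      intro j
      induction j with
      | zero => simp
      | succ j ih => rw [pow_succ, Module.End.mul_apply, h2, map_smul, ih, smul_smul, pow_succ']
    have h4 := h3 p
    rw [← map_pow, show (g ^ r) ^ p = 1 from hup ▸ pow_orderOf_eq_one (g ^ r), map_one,
      Module.End.one_apply] at h4
    have hc : c = 1 := by
      have h5 : (c ^ p - 1) • b z = 0 := by rw [sub_smul, one_smul, ← h4, sub_self]
      have h6 : (c - 1) ^ p = 0 := by
        rw [sub_pow_char, one_pow]
        exact (smul_eq_zero.1 h5).resolve_right (b.ne_zero z)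
      exact sub_eq_zero.1 (pow_eq_zero_iff hp.ne_zero |>.1 h6)
    rw [h2, hc, one_smul, Module.End.one_apply]
  have hΦ : Function.Injective Φ := fun a c h => Subtype.ext
    (Matrix.map_injective f.injective (Matrix.toLinAlgEquiv'.injective h))
  have h1 : g ^ r = 1 := hΦ (hU.trans (map_one Φ).symm)
  rw [h1, orderOf_one] at hup
  exact hp.one_lt.ne hup

/-- An element of order `r s`. -/
theorem exists_orderOf_mul {r s k l ηk ηl : ℕ} [Fact r.Prime] [Fact s.Prime] (hr2 : r ≠ 2)
    (hs2 : s ≠ 2) (hrs : r ≠ s) (hrF : (r : F) ≠ 0) (hsF : (s : F) ≠ 0)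
    (hk : k = orderOf (qF : ZMod r)) (hl : l = orderOf (qF : ZMod s))
    (hηk : (Odd k ∧ ηk = k) ∨ (Even k ∧ 2 * ηk = k)) (hηl : (Odd l ∧ ηl = l) ∨ (Even l ∧ 2 * ηl = l))
    (hln : ηl ≤ n) (h : ηk + ηl ≤ n ∨ ∃ t, Odd t ∧ l = k * t) :
    ∃ g : Sp, orderOf g = r * s := by
  have hl0 : 0 < l := hl ▸ orderOf_card_pos hsF
  have hk0 : 0 < k := hk ▸ orderOf_card_pos hrF
  have hcop : Nat.Coprime r s := (Nat.coprime_primes Fact.out Fact.out).2 hrs
  have hηk0 : 0 < ηk := by rcases hηk with ⟨-, h'⟩ | ⟨-, h'⟩ <;> omega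
  have hηl0 : 0 < ηl := by rcases hηl with ⟨-, h'⟩ | ⟨-, h'⟩ <;> omega
  rcases h with h | ⟨t, ht, hlt⟩
  · obtain ⟨x, hx⟩ := exists_small_sp_of_dvd (F := F) (r := r) hηk0
      ((dvd_pow_sub_one_iff_orderOf_dvd _).2 (hk ▸ by
        rcases hηk with ⟨-, h'⟩ | ⟨-, h'⟩ <;> rw [h'] ; exact dvd_mul_left k 2))
    obtain ⟨y, hy⟩ := exists_small_sp_of_dvd (F := F) (r := s) hηl0
      ((dvd_pow_sub_one_iff_orderOf_dvd _).2 (hl ▸ by
        rcases hηl with ⟨-, h'⟩ | ⟨-, h'⟩ <;> rw [h'] ; exact dvd_mul_left l 2))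
    obtain ⟨g, hg⟩ := exists_block_orderOf h x y
    exact ⟨g, by rw [hg, hx, hy, hcop.lcm_eq_mul]⟩
  · obtain ⟨w, hw⟩ : ∃ w : Matrix.symplecticGroup (Fin ηl) F, orderOf w = r * s := by
      refine exists_torus_sp hηl0 ?_
      rcases hηl with ⟨-, he⟩ | ⟨hle, he⟩
      · left
        rw [he]
        exact hcop.mul_dvd_of_dvd_of_dvd
          ((dvd_pow_sub_one_iff_orderOf_dvd _).2 (hk ▸ ⟨t, hlt⟩))
          ((dvd_pow_sub_one_iff_orderOf_dvd _).2 (hl ▸ dvd_rfl))
      · right
        have hhalf : ∀ {d m η : ℕ} [Fact d.Prime], m = orderOf (qF : ZMod d) → 2 * η = m → 0 < η →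
            (qF : ZMod d) ^ η = -1 := by
          intro d m η _ hm hη hη0
          refine (mul_self_eq_one_iff.1 ?_).resolve_left ?_
          · rw [← pow_add, ← two_mul, hη, hm, pow_orderOf_eq_one]
          · exact fun h1 => by
              have := Nat.le_of_dvd hη0 (hm ▸ orderOf_dvd_of_pow_eq_one h1)
              omega
        have hke : Even k := by
          rw [hlt] at hle
          exact (Nat.even_mul.1 hle).resolve_right (Nat.not_even_iff_odd.2 ht)
        have hek : 2 * ηk = k := by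
          rcases hηk with ⟨h', -⟩ | ⟨-, h'⟩
          exacts [absurd hke (Nat.not_even_iff_odd.2 h'), h']
        have hkl' : ηl = ηk * t := by
          refine Nat.eq_of_mul_eq_mul_left two_pos ?_
          rw [he, ← mul_assoc, hek, hlt]
        refine hcop.mul_dvd_of_dvd_of_dvd ?_ ?_
        · rw [← ZMod.natCast_eq_zero_iff]
          push_cast
          rw [hkl', pow_mul, hhalf hk hek hηk0, ht.neg_one_pow, neg_add_cancel]
        · rw [← ZMod.natCast_eq_zero_iff]
          push_cast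
          rw [hhalf hl he hηl0, neg_add_cancel]
    obtain ⟨g, hg⟩ := exists_block_orderOf (n := n) (a := ηl) (b := 0) (by omega) w 1
    exact ⟨g, by rw [hg, hw, orderOf_one, Nat.lcm_one_right]⟩

/-- An element of order `r p`. -/
theorem exists_orderOf_mul_char {p r k η : ℕ} [Fact p.Prime] [CharP F p] [Fact r.Prime]
    (hrp : r ≠ p) (hk : k = orderOf (qF : ZMod r))
    (hη : (Odd k ∧ η = k) ∨ (Even k ∧ 2 * η = k)) (h : η < n) :
    ∃ g : Sp, orderOf g = r * p := by
  have hk0 : 0 < k := hk ▸ orderOf_card_pos (natCast_ne_zero_of_prime_ne Fact.out hrp)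
  obtain ⟨x, hx⟩ := exists_small_sp_of_dvd (F := F) (r := r) (a := η)
    (by rcases hη with ⟨-, h'⟩ | ⟨-, h'⟩ <;> omega)
    ((dvd_pow_sub_one_iff_orderOf_dvd _).2 (hk ▸ by
      rcases hη with ⟨-, h'⟩ | ⟨-, h'⟩ <;> rw [h'] ; exact dvd_mul_left k 2))
  obtain ⟨y, hy⟩ := exists_small_sp_char (F := F) (p := p) (b := n - η) (by omega)
  obtain ⟨g, hg⟩ := exists_block_orderOf (n := n) (by omega) x y
  exact ⟨g, by rw [hg, hx, hy, ((Nat.coprime_primes Fact.out Fact.out).2 hrp).lcm_eq_mul]⟩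

end CfsgLib.Spec53
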