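import Mathlib
import Cfsg.Agent.Spec53.PSpPrimeGraph
import Cfsg.Agent.Spec53.OddOrthTorus
import Cfsg.Agent.Classical.Orth.CentreOmega
import Cfsg.Agent.OrthGeo.QuadOdd

/-!
`p (q ^ m + 1)` separates the spectra of `PSp_{2m+2}(q)` and `PΩ_{2m+3}(q)`.
-/

set_option autoImplicit false

namespace CfsgLib.Spec53

open Matrix CfsgLib.Classical.Symp

variable {F : Type*} [Field F] [Fintype F]

theorem exists_psp_orderOf_torus_unipotent (p : ℕ) [Fact p.Prime] [CharP F p] (hp2 : p ≠ 2) (m : ℕ)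
    (hm : 1 ≤ m) : ∃ x : Cfsg.PSp (1 + m) F, orderOf x = p * (Fintype.card F ^ m + 1) := by
  classical
  have hp : p.Prime := Fact.out
  have h2 : (2 : F) ≠ 0 := fun h => hp2 ((Nat.prime_dvd_prime_iff_eq hp Nat.prime_two).1
    ((CharP.cast_eq_zero_iff F p 2).1 (by exact_mod_cast h)))
  obtain ⟨w, hw⟩ := exists_torus_sp (F := F) (D := m) (d := Fintype.card F ^ m + 1) (by omega)
    (Or.inr dvd_rfl)
  obtain ⟨u, hu⟩ := exists_small_sp_char (F := F) (p := p) (b := 1) one_pos
  set g := Blocks.blockSp 1 m F (u, w) with hg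
  refine ⟨QuotientGroup.mk g, orderOf_eq_of_pow_iff' fun k => ?_⟩
  rw [← QuotientGroup.mk_pow, QuotientGroup.eq_one_iff, mem_center_iff]
  have hcop : Nat.Coprime p (Fintype.card F ^ m + 1) := by
    obtain ⟨e, -, he⟩ := FiniteField.card F p
    refine (hp.coprime_iff_not_dvd).2 fun h => hp.not_dvd_one ((Nat.dvd_add_right ?_).1 h)
    rw [he, ← pow_mul]
    exact dvd_pow_self p (Nat.mul_ne_zero e.ne_zero (by omega))
  have key : g ^ k = 1 ↔ p * (Fintype.card F ^ m + 1) ∣ k := by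
    rw [← orderOf_dvd_iff_pow_eq_one, hg, orderOf_injective _ Blocks.blockSp_injective,
      Prod.orderOf, hu, hw, hcop.lcm_eq_mul]
  rw [← key]
  constructor
  · rintro (h | h)
    · exact Subtype.ext h
    · exfalso
      have h1 : g ^ k = negOne (1 + m) F := Subtype.ext h
      rw [hg, ← Blocks.blockSp_neg_one, ← map_pow] at h1
      have h3 : u ^ k = negOne 1 F := congrArg Prod.fst (Blocks.blockSp_injective h1)
      have h4 : negOne 1 F ^ p = 1 := by
        rw [← h3, ← pow_mul, mul_comm, pow_mul, ← hu, pow_orderOf_eq_one, one_pow]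
      have h5 : ((-1 : Matrix (Fin 1 ⊕ Fin 1) (Fin 1 ⊕ Fin 1) F)) ^ p = 1 := congrArg Subtype.val h4
      rw [(hp.odd_of_ne_two hp2).neg_one_pow] at h5
      have h6 := congrFun (congrFun h5 (Sum.inl 0)) (Sum.inl 0)
      simp at h6
      exact h2 (by linear_combination -h6)
  · intro h
    left
    rw [h]
    rfl

omit [Fintype F] in
theorem pow_omega_det_one {ι : Type} [Fintype ι] [DecidableEq ι] [Finite F] {Q : (ι → F) → F}
    (hQ : Cfsg.Geo.IsNondegenerateQuadraticForm Q)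
    (hexc : ¬ (Nat.card F = 2 ∧ Fintype.card ι = 4)) (g : Cfsg.Omega F Q) :
    (((g : Cfsg.isometryGroup F Q) : GL ι F) : Matrix ι ι F).det = 1 := by
  rw [CfsgLib.Classical.Orth.det_eq_neg_one_pow hQ hexc (g : Cfsg.isometryGroup F Q).2,
    ((CfsgLib.Classical.Orth.mem_omega_iff hQ hexc _).1 g.2).1.neg_one_pow]

theorem not_orderOf_pomega_odd (p : ℕ) [Fact p.Prime] [CharP F p] (hp2 : p ≠ 2) (m : ℕ) (hm : 2 ≤ m)
    (x : Cfsg.POmega F (Cfsg.quadFormOdd (1 + m) F)) :
    orderOf x ≠ p * (Fintype.card F ^ m + 1) := by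
  classical
  have hp : p.Prime := Fact.out
  have h2 : (2 : F) ≠ 0 := fun h => hp2 ((Nat.prime_dvd_prime_iff_eq hp Nat.prime_two).1
    ((CharP.cast_eq_zero_iff F p 2).1 (by exact_mod_cast h)))
  have hQ := CfsgLib.OrthGeo.isNondegenerateQuadraticForm_quadFormOdd (F := F) (1 + m) h2
  have hcard : Fintype.card (Unit ⊕ (Fin (1 + m) ⊕ Fin (1 + m))) = 2 * m + 3 := by
    simp; omega
  have hexc : ¬ (Nat.card F = 2 ∧ Fintype.card (Unit ⊕ (Fin (1 + m) ⊕ Fin (1 + m))) = 4) :=
    fun h => by omega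
  have hbot : Subgroup.center (Cfsg.Omega F (Cfsg.quadFormOdd (1 + m) F)) = ⊥ := by
    rw [Subgroup.eq_bot_iff_forall]
    intro g hg
    rcases CfsgLib.Classical.Orth.center_omega_pm hQ (by omega) hg with h | h
    · exact Subtype.ext (Subtype.ext (Units.ext h))
    · exfalso
      have h1 := pow_omega_det_one hQ hexc g
      rw [h, Matrix.det_neg, Matrix.det_one, mul_one, hcard,
        Odd.neg_one_pow ⟨m + 1, by omega⟩] at h1
      exact h2 (by linear_combination -h1)
  obtain ⟨g, rfl⟩ := QuotientGroup.mk'_surjective _ x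
  have hinj : Function.Injective
      (QuotientGroup.mk' (Subgroup.center (Cfsg.Omega F (Cfsg.quadFormOdd (1 + m) F)))) := by
    rw [← MonoidHom.ker_eq_bot_iff, QuotientGroup.ker_mk', hbot]
  rw [orderOf_injective _ hinj, ← Subgroup.orderOf_coe]
  exact not_orderOf_omega p hp2 hQ hm hcard _ g.2

end CfsgLib.Spec53
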