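import Mathlib
import Cfsg.Agent.Classical.Semisimple.ClassCount
import Cfsg.Agent.Classical.Unitary.Blocks

/-!
Semisimple classes of the finite unitary groups and their characteristic polynomials.
-/

set_option autoImplicit false

namespace CfsgLib.Spec53

open Polynomial Matrix CfsgLib.Unitary Cfsg

open scoped _root_.Classical

section Commutant

variable {ι : Type*} [Fintype ι] [DecidableEq ι]

/-- The commutant of a matrix with distinct eigenvalues is commutative. -/
theorem commute_of_nodup_roots {L : Type*} [Field L] [IsAlgClosed L] {A B C : Matrix ι ι L}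
    (hR : A.charpoly.roots.Nodup) (hB : Commute B A) (hC : Commute C A) : Commute B C := by
  rcases isEmpty_or_nonempty ι with h | h
  · exact Subsingleton.elim _ _
  have hP0 : A.charpoly ≠ 0 := (Matrix.charpoly_monic A).ne_zero
  set S := A.charpoly.roots.toFinset with hS
  have hcardS : S.card = Fintype.card ι := by
    rw [hS, Multiset.toFinset_card_of_nodup hR,
      Polynomial.splits_iff_card_roots.1 (IsAlgClosed.splits _), Matrix.charpoly_natDegree_eq_dim]
  have hev : ∀ z : S, ∃ v, Module.End.HasEigenvector (Matrix.toLin' A) (z : L) v := fun z => by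
    refine Module.End.HasEigenvalue.exists_hasEigenvector ?_
    rw [Module.End.hasEigenvalue_iff_isRoot_charpoly, Matrix.charpoly_toLin']
    exact (mem_roots hP0).1 (Multiset.mem_toFinset.1 z.2)
  choose v hv using hev
  have hli := Module.End.eigenvectors_linearIndependent' (Matrix.toLin' A) (fun z : S => (z : L))
    Subtype.val_injective v hv
  haveI : Nonempty S := by
    rw [← Fintype.card_pos_iff, Fintype.card_coe, hcardS]; exact Fintype.card_pos
  let b := basisOfLinearIndependentOfCardEqFinrank hli (by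
    rw [Module.finrank_pi, Fintype.card_coe, hcardS])
  have hb : ∀ z, A *ᵥ b z = (z : L) • b z := fun z => by
    rw [coe_basisOfLinearIndependentOfCardEqFinrank, ← Matrix.toLin'_apply]
    exact (hv z).apply_eq_smul
  have key : ∀ U : Matrix ι ι L, Commute U A → ∀ z, ∃ c : L, U *ᵥ b z = c • b z := by
    intro U hU z
    set w := U *ᵥ b z with hw
    have hAw : A *ᵥ w = (z : L) • w := by
      rw [hw, Matrix.mulVec_mulVec, ← hU.eq, ← Matrix.mulVec_mulVec, hb, Matrix.mulVec_smul]
    refine ⟨b.repr w z, ?_⟩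
    conv_lhs => rw [← b.sum_repr w]
    refine Finset.sum_eq_single_of_mem z (Finset.mem_univ z) fun j _ hj => ?_
    have e2 : A *ᵥ w = ∑ i, (b.repr w i * (i : L)) • b i := by
      conv_lhs => rw [← b.sum_repr w, Matrix.mulVec_sum]
      exact Finset.sum_congr rfl fun i _ => by rw [Matrix.mulVec_smul, hb, smul_smul]
    rw [hAw] at e2
    have e3 := DFunLike.congr_fun (congrArg b.repr e2) j
    rw [map_smul, Finsupp.smul_apply, b.repr_sum_self, smul_eq_mul] at e3
    have e4 : b.repr w j * ((j : L) - z) = 0 := by linear_combination -e3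
    rw [(mul_eq_zero.1 e4).resolve_right (sub_ne_zero.2 fun h => hj (Subtype.ext h)), zero_smul]
  refine Matrix.toLin'.injective (b.ext fun z => ?_)
  obtain ⟨c, hc⟩ := key B hB z
  obtain ⟨d, hd⟩ := key C hC z
  rw [Matrix.toLin'_apply, Matrix.toLin'_apply, ← Matrix.mulVec_mulVec, ← Matrix.mulVec_mulVec,
    hc, hd, Matrix.mulVec_smul, Matrix.mulVec_smul, hc, hd, smul_comm]

/-- The commutant of a matrix over a perfect field with squarefree characteristic polynomial is
commutative. -/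
theorem commute_of_squarefree {F : Type*} [Field F] [PerfectField F] {A B C : Matrix ι ι F}
    (hs : Squarefree A.charpoly) (hB : Commute B A) (hC : Commute C A) : Commute B C := by
  set φ := (algebraMap F (AlgebraicClosure F)).mapMatrix (m := ι)
  refine Matrix.map_injective (algebraMap F (AlgebraicClosure F)).injective ?_
  show φ (B * C) = φ (C * B)
  rw [map_mul, map_mul]
  refine (commute_of_nodup_roots (A := φ A) ?_ (hB.map φ) (hC.map φ)).eq
  rw [RingHom.mapMatrix_apply, Matrix.charpoly_map]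
  exact Polynomial.nodup_roots ((PerfectField.separable_iff_squarefree.2 hs).map)

end Commutant

section Dual

variable {F : Type*} [Field F] {σ : F →+* F}

/-- The conjugate-reciprocal polynomial. -/
noncomputable def conjRecip (σ : F →+* F) (P : F[X]) : F[X] :=
  Polynomial.C (σ (P.coeff 0))⁻¹ * (P.map σ).reverse

theorem conjRecip_mul (P Q : F[X]) :
    conjRecip σ (P * Q) = conjRecip σ P * conjRecip σ Q := by
  unfold conjRecip
  rw [Polynomial.map_mul, Polynomial.reverse_mul_of_domain, Polynomial.mul_coeff_zero, map_mul,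
    mul_inv, Polynomial.C_mul]
  ring

theorem natDegree_conjRecip {P : F[X]} (h0 : P.coeff 0 ≠ 0) :
    (conjRecip σ P).natDegree = P.natDegree := by
  have h : (P.map σ).coeff 0 ≠ 0 := by simpa [Polynomial.coeff_map] using h0
  unfold conjRecip
  rw [Polynomial.natDegree_C_mul (by simpa using h0), Polynomial.reverse_natDegree,
    Polynomial.natTrailingDegree_eq_zero.2 (Or.inr h), Polynomial.natDegree_map, Nat.sub_zero]

theorem monic_conjRecip {P : F[X]} (h0 : P.coeff 0 ≠ 0) : (conjRecip σ P).Monic := by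
  have h : (P.map σ).coeff 0 ≠ 0 := by simpa [Polynomial.coeff_map] using h0
  unfold conjRecip
  rw [Polynomial.Monic, Polynomial.leadingCoeff_mul, Polynomial.leadingCoeff_C,
    Polynomial.reverse_leadingCoeff, Polynomial.trailingCoeff,
    Polynomial.natTrailingDegree_eq_zero.2 (Or.inr h), Polynomial.coeff_map,
    inv_mul_cancel₀ (by simpa using h0)]

theorem coeff_zero_conjRecip {P : F[X]} (hm : P.Monic) :
    (conjRecip σ P).coeff 0 = (σ (P.coeff 0))⁻¹ := by
  unfold conjRecip
  rw [Polynomial.coeff_C_mul, Polynomial.coeff_zero_reverse, (hm.map σ).leadingCoeff, mul_one]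

theorem coeff_conjRecip {P : F[X]} {k : ℕ} (hk : k ≤ P.natDegree) :
    (conjRecip σ P).coeff k = (σ (P.coeff 0))⁻¹ * σ (P.coeff (P.natDegree - k)) := by
  unfold conjRecip
  rw [Polynomial.coeff_C_mul, Polynomial.coeff_reverse, Polynomial.natDegree_map,
    Polynomial.revAt_le hk, Polynomial.coeff_map]

theorem conjRecip_conjRecip (hσ : ∀ x, σ (σ x) = x) {P : F[X]} (hm : P.Monic)
    (h0 : P.coeff 0 ≠ 0) : conjRecip σ (conjRecip σ P) = P := by
  refine Polynomial.ext fun k => ?_
  have h0' : (conjRecip σ P).coeff 0 ≠ 0 := by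
    rw [coeff_zero_conjRecip hm]; simpa using h0
  rcases le_or_gt k P.natDegree with hk | hk
  · rw [coeff_conjRecip (by rw [natDegree_conjRecip h0]; exact hk), natDegree_conjRecip h0,
      coeff_conjRecip (Nat.sub_le _ _), coeff_zero_conjRecip hm, Nat.sub_sub_self hk]
    simp only [map_mul, map_inv₀, hσ, inv_inv]
    field_simp
  · rw [Polynomial.coeff_eq_zero_of_natDegree_lt hk, Polynomial.coeff_eq_zero_of_natDegree_lt
      (by rw [natDegree_conjRecip h0', natDegree_conjRecip h0]; exact hk)]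

theorem irreducible_conjRecip (hσ : ∀ x, σ (σ x) = x) {P : F[X]} (hP : Irreducible P)
    (hm : P.Monic) (h0 : P.coeff 0 ≠ 0) : Irreducible (conjRecip σ P) := by
  rw [Polynomial.Monic.irreducible_iff_natDegree (monic_conjRecip h0)]
  refine ⟨fun h => ?_, fun f g hf hg hfg => ?_⟩
  · have := hP.natDegree_pos
    have h1 := natDegree_conjRecip (σ := σ) h0
    rw [h, Polynomial.natDegree_one] at h1
    omega
  · have h00 : f.coeff 0 * g.coeff 0 = (σ (P.coeff 0))⁻¹ := by
      rw [← Polynomial.mul_coeff_zero, hfg, coeff_zero_conjRecip hm]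
    have hf0 : f.coeff 0 ≠ 0 := fun h => by rw [h, zero_mul] at h00; simp at h00; exact h0 ((map_eq_zero σ).1 h00.symm)
    have hg0 : g.coeff 0 ≠ 0 := fun h => by rw [h, mul_zero] at h00; simp at h00; exact h0 ((map_eq_zero σ).1 h00.symm)
    have h1 : conjRecip σ f * conjRecip σ g = P := by
      rw [← conjRecip_mul, hfg, conjRecip_conjRecip hσ hm h0]
    rcases ((Polynomial.Monic.irreducible_iff_natDegree hm).1 hP).2 _ _ (monic_conjRecip hf0)
      (monic_conjRecip hg0) h1 with h | h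
    · exact Or.inl (by rwa [natDegree_conjRecip hf0] at h)
    · exact Or.inr (by rwa [natDegree_conjRecip hg0] at h)

/-- A self-dual monic polynomial has a squarefree self-dual factor. -/
theorem exists_squarefree_factor (hσ : ∀ x, σ (σ x) = x) {P : F[X]} (hm : P.Monic)
    (h0 : P.coeff 0 ≠ 0) (hd : 0 < P.natDegree) (hP : conjRecip σ P = P) :
    ∃ Q R : F[X], Q.Monic ∧ R.Monic ∧ P = Q * R ∧ Squarefree Q ∧ 0 < Q.natDegree ∧
      conjRecip σ Q = Q ∧ conjRecip σ R = R := by
  obtain ⟨f, hfm, hf, hfd⟩ := Polynomial.exists_monic_irreducible_factor P (fun h => by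
    have := Polynomial.natDegree_eq_zero_of_isUnit h
    omega)
  have hf0 : f.coeff 0 ≠ 0 := fun h => h0 (by
    obtain ⟨c, rfl⟩ := hfd
    rw [Polynomial.mul_coeff_zero, h, zero_mul])
  have hfd' : conjRecip σ f ∣ P := by
    obtain ⟨c, hc⟩ := hfd
    exact ⟨conjRecip σ c, by rw [← conjRecip_mul, ← hc, hP]⟩
  have hfi := irreducible_conjRecip hσ hf hfm hf0
  obtain ⟨Q, hQm, hQs, hQd, hQ, hQP⟩ : ∃ Q : F[X], Q.Monic ∧ Squarefree Q ∧ 0 < Q.natDegree ∧
      conjRecip σ Q = Q ∧ Q ∣ P := by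
    by_cases hff : conjRecip σ f = f
    · exact ⟨f, hfm, hf.squarefree, hf.natDegree_pos, hff, hfd⟩
    · have hcop : IsCoprime f (conjRecip σ f) := (hf.coprime_iff_not_dvd).2 fun h =>
        hff (Polynomial.eq_of_monic_of_associated (monic_conjRecip hf0) hfm
          (hf.associated_of_dvd hfi h).symm)
      refine ⟨f * conjRecip σ f, hfm.mul (monic_conjRecip hf0), ?_, ?_, ?_, hcop.mul_dvd hfd hfd'⟩
      · exact (squarefree_mul_iff).2 ⟨hcop.isRelPrime, hf.squarefree, hfi.squarefree⟩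
      · rw [hfm.natDegree_mul (monic_conjRecip hf0)]
        exact Nat.add_pos_left hf.natDegree_pos _
      · rw [conjRecip_mul, conjRecip_conjRecip hσ hfm hf0, mul_comm]
  obtain ⟨R, rfl⟩ := hQP
  refine ⟨Q, R, hQm, hQm.of_mul_monic_left hm, rfl, hQs, hQd, hQ, ?_⟩
  refine mul_left_cancel₀ hQm.ne_zero ?_
  nth_rw 1 [← hQ]
  rw [← conjRecip_mul, hP]

end Dual

section Unitary

variable {F : Type*} [Field F] [Fintype F] {q n : ℕ}

theorem conjHom_conjHom (hF : Fintype.card F = q ^ 2) (x : F) :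
    conjHom hF (conjHom hF x) = x := by
  rw [conjHom_apply, conjHom_apply, pow_q_q hF]

theorem charpoly_cjT_inv (hF : Fintype.card F = q ^ 2) {A : Matrix (Fin n) (Fin n) F}
    (hA : IsUnit A) : (cjT q A)⁻¹.charpoly = conjRecip (conjHom hF) A.charpoly := by
  have hc : cjT q A = (A.map (conjHom hF))ᵀ := rfl
  rw [Matrix.charpoly_inv _ (isUnit_cjT hF hA), ← Matrix.reverse_charpoly, hc,
    Matrix.charpoly_transpose, Matrix.charpoly_map, Matrix.det_transpose]
  unfold conjRecip
  have hd : (A.map (conjHom hF)).det = conjHom hF A.det := (RingHom.map_det _ _).symm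
  rw [hd, Ring.inverse_eq_inv', Fintype.card_fin, Matrix.det_eq_sign_charpoly_coeff A,
    Fintype.card_fin, map_mul, map_pow, map_neg, map_one]
  rw [show ((-1 : F[X]) ^ n) = Polynomial.C ((-1 : F) ^ n) by simp, ← Polynomial.C_mul, mul_inv,
    ← mul_assoc, ← inv_pow, inv_neg, inv_one, ← mul_pow, neg_one_mul, neg_neg, one_pow, one_mul]

theorem conjRecip_charpoly_of_mem (hF : Fintype.card F = q ^ 2) {g : GL (Fin n) F}
    (hg : g ∈ GU n F q) :
    conjRecip (conjHom hF) (g : Matrix (Fin n) (Fin n) F).charpoly =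
      (g : Matrix (Fin n) (Fin n) F).charpoly := by
  rw [← charpoly_cjT_inv hF g.isUnit, Matrix.inv_eq_right_inv ((mem_GU_iff_cjT hF).1 hg)]

theorem coeff_zero_charpoly_ne_zero (g : GL (Fin n) F) :
    (g : Matrix (Fin n) (Fin n) F).charpoly.coeff 0 ≠ 0 := fun h => by
  have h1 := CfsgLib.Classical.Semisimple.det_eq_coeff (M := (g : Matrix (Fin n) (Fin n) F))
  rw [h, mul_zero] at h1
  exact Matrix.GeneralLinearGroup.det_ne_zero g h1

/-- The automorphism `g ↦ (g*)⁻¹` of the general linear group. -/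
noncomputable def starInvHom (hF : Fintype.card F = q ^ 2) :
    GL (Fin n) F →* GL (Fin n) F where
  toFun g := (isUnit_cjT hF g.isUnit).unit⁻¹
  map_one' := by
    apply inv_eq_one.2
    exact Units.ext (cjT_one hF)
  map_mul' a b := by
    rw [← _root_.mul_inv_rev]
    congr 1
    exact Units.ext (cjT_mul hF _ _)

theorem starInvHom_val (hF : Fintype.card F = q ^ 2) (g : GL (Fin n) F) :
    ((starInvHom hF g : GL (Fin n) F) : Matrix (Fin n) (Fin n) F) =
      (cjT q (g : Matrix (Fin n) (Fin n) F))⁻¹ := by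
  show (((isUnit_cjT hF g.isUnit).unit⁻¹ : GL (Fin n) F) : Matrix (Fin n) (Fin n) F) = _
  rw [Matrix.coe_units_inv, IsUnit.unit_spec]

/-- Two conjugate elements of `GU` in `GL` are conjugate in `GU`. -/
theorem gu_isConj_of_gl_isConj (hF : Fintype.card F = q ^ 2) (A B : ↥(GU n F q))
    (h : IsConj (A : GL (Fin n) F) (B : GL (Fin n) F)) : IsConj A B := by
  obtain ⟨P, hP⟩ := isConj_iff.1 h
  set a : Matrix (Fin n) (Fin n) F := ((A : GL (Fin n) F) : Matrix (Fin n) (Fin n) F) with ha
  set b : Matrix (Fin n) (Fin n) F := ((B : GL (Fin n) F) : Matrix (Fin n) (Fin n) F) with hb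
  set p : Matrix (Fin n) (Fin n) F := (P : Matrix (Fin n) (Fin n) F) with hp
  have hAu := (mem_GU_iff_cjT hF).1 A.2
  have hBu := (mem_GU_iff_cjT hF).1 B.2
  have hpa : p * a = b * p := by
    have h1 : P * (A : GL (Fin n) F) = (B : GL (Fin n) F) * P := by
      rw [← hP, inv_mul_cancel_right]
    exact congrArg Units.val h1
  have hH : Commute a (cjT q p * p) := by
    have h1 : cjT q a * (cjT q p * p) * a = cjT q p * p := by
      calc cjT q a * (cjT q p * p) * a = cjT q (p * a) * (p * a) := by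
            rw [cjT_mul hF]; simp only [mul_assoc]
        _ = cjT q p * (cjT q b * b) * p := by rw [hpa, cjT_mul hF]; simp only [mul_assoc]
        _ = cjT q p * p := by rw [hBu, mul_one]
    show a * (cjT q p * p) = cjT q p * p * a
    conv_lhs => rw [← h1]
    rw [← mul_assoc, ← mul_assoc a, mul_eq_one_comm.1 hAu, one_mul]
  obtain ⟨Z, hZu, hZc, hZ⟩ := exists_cjT_mul_self hF (H := cjT q p * p)
    (by rw [cjT_mul hF, cjT_cjT hF]) ((isUnit_cjT hF P.isUnit).mul P.isUnit)
  set W := hZu.unit with hW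
  have hZA : Commute (A : GL (Fin n) F) W := Units.ext (hZc a hH).eq
  have hQ : P * W⁻¹ ∈ GU n F q := by
    rw [mem_GU_iff_cjT hF]
    have hWi : Z * ((W⁻¹ : GL (Fin n) F) : Matrix (Fin n) (Fin n) F) = 1 := W.mul_inv
    rw [Units.val_mul, cjT_mul hF]
    calc _ = cjT q ((W⁻¹ : GL (Fin n) F) : Matrix (Fin n) (Fin n) F) * (cjT q p * p) *
          ((W⁻¹ : GL (Fin n) F) : Matrix (Fin n) (Fin n) F) := by simp only [mul_assoc]; rfl
      _ = cjT q (Z * ((W⁻¹ : GL (Fin n) F) : Matrix (Fin n) (Fin n) F)) *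
          (Z * ((W⁻¹ : GL (Fin n) F) : Matrix (Fin n) (Fin n) F)) := by
        rw [← hZ, cjT_mul hF]; simp only [mul_assoc]
      _ = 1 := by rw [hWi, cjT_one hF, one_mul]
  refine isConj_iff.2 ⟨⟨P * W⁻¹, hQ⟩, Subtype.ext ?_⟩
  show P * W⁻¹ * (A : GL (Fin n) F) * (P * W⁻¹)⁻¹ = (B : GL (Fin n) F)
  rw [← hP, _root_.mul_inv_rev, inv_inv, mul_assoc P, (hZA.inv_right).symm.eq]
  group

variable (p : ℕ) [Fact p.Prime] [CharP F p]

theorem gu_isConj_of_charpoly_eq (hF : Fintype.card F = q ^ 2) {g h : ↥(GU n F q)}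
    (hg : (orderOf g).Coprime p) (hh : (orderOf h).Coprime p)
    (hc : ((g : GL (Fin n) F) : Matrix (Fin n) (Fin n) F).charpoly =
      ((h : GL (Fin n) F) : Matrix (Fin n) (Fin n) F).charpoly) : IsConj g h :=
  gu_isConj_of_gl_isConj hF g h (CfsgLib.Classical.Semisimple.gl_isConj_of_charpoly_eq p
    (by rwa [Subgroup.orderOf_coe]) (by rwa [Subgroup.orderOf_coe]) hc)

/-- Semisimple unitary elements with prescribed self-dual characteristic polynomial. -/
theorem exists_gu_charpoly (hF : Fintype.card F = q ^ 2) {P : F[X]} (hm : P.Monic)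
    (hdeg : P.natDegree = n) (h0 : P.coeff 0 ≠ 0) (hP : conjRecip (conjHom hF) P = P) :
    ∃ g : ↥(GU n F q), (orderOf g).Coprime p ∧
      ((g : GL (Fin n) F) : Matrix (Fin n) (Fin n) F).charpoly = P := by
  obtain ⟨M, hM⟩ := CfsgLib.Classical.Semisimple.exists_matrix_charpoly_eq hm hdeg
  have hu : IsUnit M := by
    rw [Matrix.isUnit_iff_isUnit_det, isUnit_iff_ne_zero,
      CfsgLib.Classical.Semisimple.det_eq_coeff, hM]
    exact mul_ne_zero (pow_ne_zero _ (neg_ne_zero.mpr one_ne_zero)) h0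
  obtain ⟨N, hN, hchar⟩ := CfsgLib.Classical.Semisimple.exists_pow_card_pow_coprime p hu.unit
  set A := hu.unit ^ Fintype.card F ^ N
  rw [IsUnit.unit_spec, hM] at hchar
  have hord : (orderOf (starInvHom hF A)).Coprime p :=
    Nat.Coprime.coprime_dvd_left (orderOf_map_dvd _ _) hN
  have hconj : IsConj A (starInvHom hF A) :=
    CfsgLib.Classical.Semisimple.gl_isConj_of_charpoly_eq p hN hord (by
      rw [starInvHom_val, charpoly_cjT_inv hF A.isUnit, hchar, hP])
  obtain ⟨c, hc⟩ := (Units.coeHom (Matrix (Fin n) (Fin n) F)).map_isConj hconj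
  have hc' : (c : Matrix (Fin n) (Fin n) F) * (A : Matrix (Fin n) (Fin n) F) =
      (cjT q (A : Matrix (Fin n) (Fin n) F))⁻¹ * (c : Matrix (Fin n) (Fin n) F) := by
    rw [← starInvHom_val hF A]; exact hc.eq
  set a : Matrix (Fin n) (Fin n) F := (A : Matrix (Fin n) (Fin n) F) with ha
  set x : Matrix (Fin n) (Fin n) F := (c : Matrix (Fin n) (Fin n) F) with hx
  have hau : IsUnit (cjT q a) := isUnit_cjT hF A.isUnit
  have hX : cjT q a * x * a = x := by
    rw [mul_assoc, hc', ← mul_assoc,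
      Matrix.mul_nonsing_inv _ ((Matrix.isUnit_iff_isUnit_det _).1 hau), one_mul]
  obtain ⟨H, hHu, hHh, hHA⟩ := exists_hermitian_invariant hF A.isUnit c.isUnit hX
  obtain ⟨Z, hZu, -, hZ⟩ := exists_cjT_mul_self hF hHh hHu
  set W := hZu.unit with hW
  have hWi : Z * ((W⁻¹ : GL (Fin n) F) : Matrix (Fin n) (Fin n) F) = 1 := W.mul_inv
  have hmem : W * A * W⁻¹ ∈ GU n F q := by
    rw [mem_GU_iff_cjT hF]
    show cjT q (Z * a * ((W⁻¹ : GL (Fin n) F) : Matrix (Fin n) (Fin n) F)) *
      (Z * a * ((W⁻¹ : GL (Fin n) F) : Matrix (Fin n) (Fin n) F)) = 1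
    rw [cjT_mul hF, cjT_mul hF]
    calc _ = cjT q ((W⁻¹ : GL (Fin n) F) : Matrix (Fin n) (Fin n) F) * (cjT q a * H * a) *
          ((W⁻¹ : GL (Fin n) F) : Matrix (Fin n) (Fin n) F) := by
            rw [← hZ]; simp only [mul_assoc]
      _ = cjT q (Z * ((W⁻¹ : GL (Fin n) F) : Matrix (Fin n) (Fin n) F)) *
          (Z * ((W⁻¹ : GL (Fin n) F) : Matrix (Fin n) (Fin n) F)) := by
        rw [hHA, ← hZ, cjT_mul hF]; simp only [mul_assoc]
      _ = 1 := by rw [hWi, cjT_one hF, one_mul]
  refine ⟨⟨W * A * W⁻¹, hmem⟩, ?_, ?_⟩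
  · rw [← Subgroup.orderOf_coe]
    exact Nat.Coprime.coprime_dvd_left
      (dvd_of_eq (orderOf_injective (MulAut.conj W).toMonoidHom (MulAut.conj W).injective A)) hN
  · show ((W * A * W⁻¹ : GL (Fin n) F) : Matrix (Fin n) (Fin n) F).charpoly = P
    rw [Units.val_mul, Units.val_mul, Matrix.coe_units_inv, Matrix.charpoly_units_conj, hchar]

omit [Fact p.Prime] [CharP F p] in
theorem exists_pow_sub_one_eq (hF : Fintype.card F = q ^ 2) {x : F} (hx : x ^ (q + 1) = 1) :
    ∃ d : F, d ≠ 0 ∧ d ^ (q - 1) = x := by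
  obtain ⟨ζ, hζ⟩ := IsCyclic.exists_generator (α := Fˣ)
  have hq := two_le_q hF
  have hx0 : x ≠ 0 := fun h => by rw [h, zero_pow (by omega)] at hx; exact zero_ne_one hx
  obtain ⟨k, hk⟩ := mem_powers_iff_mem_zpowers.2 (hζ (Units.mk0 x hx0))
  have hord : orderOf ζ = (q - 1) * (q + 1) := by
    rw [orderOf_eq_card_of_forall_mem_zpowers hζ, card_units_eq hF]
  have h1 : ζ ^ (k * (q + 1)) = 1 := by
    rw [pow_mul, show ζ ^ k = Units.mk0 x hx0 from hk]
    exact Units.ext (by simpa using hx)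
  have h2 := orderOf_dvd_of_pow_eq_one h1
  rw [hord] at h2
  obtain ⟨j, hj⟩ := Nat.dvd_of_mul_dvd_mul_right (by omega) h2
  refine ⟨((ζ ^ j : Fˣ) : F), Units.ne_zero _, ?_⟩
  rw [← Units.val_pow_eq_pow_val, ← pow_mul, mul_comm, ← hj, show ζ ^ k = Units.mk0 x hx0 from hk]
  rfl

theorem exists_commute_gu_det_of_squarefree (hF : Fintype.card F = q ^ 2) (hn : 1 ≤ n)
    {g : ↥(GU n F q)} (hg : (orderOf g).Coprime p)
    (hs : Squarefree ((g : GL (Fin n) F) : Matrix (Fin n) (Fin n) F).charpoly)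
    {x : F} (hx : x ^ (q + 1) = 1) :
    ∃ z : ↥(GU n F q), Commute z g ∧ ((z : GL (Fin n) F) : Matrix (Fin n) (Fin n) F).det = x := by
  haveI : Nonempty (Fin n) := ⟨⟨0, hn⟩⟩
  set A : Matrix (Fin n) (Fin n) F := ((g : GL (Fin n) F) : Matrix (Fin n) (Fin n) F) with hA
  obtain ⟨d, hd, hdx⟩ := exists_pow_sub_one_eq hF hx
  have hss := CfsgLib.Classical.Semisimple.gl_isSemisimple (ι := Fin n) p
    (g := (g : GL (Fin n) F)) (by rwa [Subgroup.orderOf_coe])
  obtain ⟨k, hk, hkd⟩ := CfsgLib.Classical.Semisimple.exists_commute_det_eq hss hd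
  set a : Matrix (Fin n) (Fin n) F := LinearMap.toMatrix' (k : (Fin n → F) →ₗ[F] (Fin n → F))
    with ha
  have hadet : a.det = d := by rw [ha, LinearMap.det_toMatrix', hkd]
  have hau : IsUnit a := by
    rw [Matrix.isUnit_iff_isUnit_det, hadet]; exact isUnit_iff_ne_zero.2 hd
  have hga : Commute a A := by
    show a * A = A * a
    exact CfsgLib.Classical.Semisimple.toMatrix'_mul_eq_of_comm hk
  have hgu : cjT q A * A = 1 := (mem_GU_iff_cjT hF).1 g.2
  have hga' : Commute (cjT q a) A := by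
    have h1 : cjT q A * cjT q a = cjT q a * cjT q A := by
      rw [← cjT_mul hF, ← cjT_mul hF, hga.eq]
    show cjT q a * A = A * cjT q a
    calc cjT q a * A = A * (cjT q A * cjT q a) * A := by
          rw [← mul_assoc A, mul_eq_one_comm.1 hgu, one_mul]
      _ = A * cjT q a * (cjT q A * A) := by rw [h1]; simp only [mul_assoc]
      _ = A * cjT q a := by rw [hgu, mul_one]
  have haa : Commute (cjT q a) a := commute_of_squarefree hs hga' hga
  set U := hau.unit
  set V := (isUnit_cjT hF hau).unit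
  have hUV : Commute V U := Units.ext haa.eq
  have hUg : Commute U (g : GL (Fin n) F) := Units.ext hga.eq
  have hVg : Commute V (g : GL (Fin n) F) := Units.ext hga'.eq
  have hmem : V * U⁻¹ ∈ GU n F q := by
    rw [mem_GU_iff_cjT hF, Units.val_mul, cjT_mul hF]
    show cjT q ((U⁻¹ : GL (Fin n) F) : Matrix (Fin n) (Fin n) F) * cjT q (cjT q a) *
      (cjT q a * ((U⁻¹ : GL (Fin n) F) : Matrix (Fin n) (Fin n) F)) = 1
    rw [cjT_cjT hF, mul_assoc, ← mul_assoc a, ← haa.eq, mul_assoc (cjT q a),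
      show a * ((U⁻¹ : GL (Fin n) F) : Matrix (Fin n) (Fin n) F) = 1 from U.mul_inv, mul_one,
      ← cjT_mul hF, show a * ((U⁻¹ : GL (Fin n) F) : Matrix (Fin n) (Fin n) F) = 1 from U.mul_inv,
      cjT_one hF]
  refine ⟨⟨V * U⁻¹, hmem⟩, Subtype.ext (hVg.mul_left hUg.inv_left).eq, ?_⟩
  show ((V * U⁻¹ : GL (Fin n) F) : Matrix (Fin n) (Fin n) F).det = x
  have hcd : (cjT q a).det = d ^ q := by
    rw [show cjT q a = ((conjHom hF).mapMatrix a)ᵀ from rfl, Matrix.det_transpose,
      ← RingHom.map_det, hadet, conjHom_apply]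
  rw [Units.val_mul, Matrix.det_mul, show (V : Matrix (Fin n) (Fin n) F) = cjT q a from rfl, hcd,
    Matrix.coe_units_inv, Matrix.det_nonsing_inv, Ring.inverse_eq_inv',
    show (U : Matrix (Fin n) (Fin n) F) = a from rfl, hadet, ← hdx]
  rw [eq_comm, eq_mul_inv_iff_mul_eq₀ hd, ← pow_succ]
  congr 1
  have := two_le_q hF
  omega

omit [Fact p.Prime] [CharP F p] in
theorem charpoly_blockMat {k l : ℕ} (h : k + l = n)
    (A : Matrix (Fin k) (Fin k) F × Matrix (Fin l) (Fin l) F) :
    (blockMat h A).charpoly = A.1.charpoly * A.2.charpoly := by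
  show (Matrix.reindexAlgEquiv F F (blockIdx h) _).charpoly = _
  rw [Matrix.reindexAlgEquiv_apply, Matrix.charpoly_reindex,
    Matrix.charpoly_fromBlocks_zero₁₂]

/-- The centralizer of a semisimple unitary element has elements of every norm-one determinant. -/
theorem exists_commute_gu_det (hF : Fintype.card F = q ^ 2) (hn : 1 ≤ n)
    {g : ↥(GU n F q)} (hg : (orderOf g).Coprime p) {x : F} (hx : x ^ (q + 1) = 1) :
    ∃ z : ↥(GU n F q), Commute z g ∧ ((z : GL (Fin n) F) : Matrix (Fin n) (Fin n) F).det = x := by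
  set P := ((g : GL (Fin n) F) : Matrix (Fin n) (Fin n) F).charpoly with hP
  have hm : P.Monic := Matrix.charpoly_monic _
  have hdeg : P.natDegree = n := by rw [hP, Matrix.charpoly_natDegree_eq_dim, Fintype.card_fin]
  obtain ⟨Q, R, hQm, hRm, hPQR, hQs, hQd, hQ, hR⟩ :=
    exists_squarefree_factor (conjHom_conjHom hF) hm (coeff_zero_charpoly_ne_zero _)
      (by omega) (conjRecip_charpoly_of_mem hF g.2)
  have h00 : Q.coeff 0 ≠ 0 ∧ R.coeff 0 ≠ 0 := by
    rw [← mul_ne_zero_iff, ← Polynomial.mul_coeff_zero, ← hPQR]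
    exact coeff_zero_charpoly_ne_zero _
  have hkl : Q.natDegree + R.natDegree = n := by
    rw [← hQm.natDegree_mul hRm, ← hPQR, hdeg]
  obtain ⟨g1, hg1, hc1⟩ := exists_gu_charpoly p hF hQm rfl h00.1 hQ
  obtain ⟨g2, hg2, hc2⟩ := exists_gu_charpoly p hF hRm rfl h00.2 hR
  set G := blockGU hF hkl (g1, g2) with hG
  have hGo : (orderOf G).Coprime p := by
    rw [hG, orderOf_injective _ (blockGU_injective hF hkl), Prod.orderOf]
    exact Nat.Coprime.coprime_dvd_left (Nat.lcm_dvd_mul _ _) (Nat.Coprime.mul_left hg1 hg2)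
  have hGc : ((G : GL (Fin n) F) : Matrix (Fin n) (Fin n) F).charpoly = P := by
    rw [hG, blockGU_val, charpoly_blockMat, hc1, hc2, hPQR]
  obtain ⟨w, hw⟩ := isConj_iff.1 (gu_isConj_of_charpoly_eq p hF hGo hg hGc)
  obtain ⟨z1, hz1, hz1d⟩ := exists_commute_gu_det_of_squarefree p hF hQd hg1
    (by rw [hc1]; exact hQs) hx
  refine ⟨w * blockGU hF hkl (z1, 1) * w⁻¹, ?_, ?_⟩
  · rw [← hw]
    exact Commute.map (show Commute (blockGU hF hkl (z1, 1)) G by
      rw [hG]; exact (Commute.prod hz1 (Commute.one_left _)).map _) (MulAut.conj w)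
  · have h1 : detGU (w * blockGU hF hkl (z1, 1) * w⁻¹) = detGU (blockGU hF hkl (z1, 1)) := by
      rw [map_mul, map_mul, map_inv, mul_comm (detGU w), mul_inv_cancel_right]
    refine (congrArg Units.val h1).trans ?_
    show ((blockGU hF hkl (z1, 1) : GL (Fin n) F) : Matrix (Fin n) (Fin n) F).det = x
    rw [blockGU_val]
    show (Matrix.reindexAlgEquiv F F (blockIdx hkl) _).det = x
    rw [Matrix.det_reindexAlgEquiv, Matrix.det_fromBlocks_zero₂₁, hz1d]
    simp

/-- Semisimple elements of `SU` with the same characteristic polynomial are conjugate. -/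
theorem su_isConj_of_charpoly_eq (hF : Fintype.card F = q ^ 2) {g h : ↥(SU n F q)}
    (hg : (orderOf g).Coprime p) (hh : (orderOf h).Coprime p)
    (hc : ((g : Matrix.SpecialLinearGroup (Fin n) F) : Matrix (Fin n) (Fin n) F).charpoly =
      ((h : Matrix.SpecialLinearGroup (Fin n) F) : Matrix (Fin n) (Fin n) F).charpoly) :
    IsConj g h := by
  rcases Nat.eq_zero_or_pos n with rfl | hn
  · have : g = h := by ext i; exact i.elim0
    exact this ▸ IsConj.refl g
  have hg' : (orderOf (suToGU g)).Coprime p := by rwa [orderOf_injective _ suToGU_injective]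
  have hh' : (orderOf (suToGU h)).Coprime p := by rwa [orderOf_injective _ suToGU_injective]
  obtain ⟨u, hu⟩ := isConj_iff.1 (gu_isConj_of_charpoly_eq p hF hg' hh' hc)
  have hx : ((detGU u)⁻¹ : Fˣ).val ^ (q + 1) = 1 := by
    rw [Units.val_inv_eq_inv_val, inv_pow,
      show ((detGU u : Fˣ) : F) ^ (q + 1) = 1 from det_pow_succ_eq_one hF u.2, inv_one]
  obtain ⟨z, hz, hzd⟩ := exists_commute_gu_det p hF hn hg' hx
  have hmem : u * z ∈ (suToGU : ↥(SU n F q) →* ↥(GU n F q)).range := by
    rw [← ker_detGU, MonoidHom.mem_ker, map_mul,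
      show detGU z = (detGU u)⁻¹ from Units.ext hzd, mul_inv_cancel]
  obtain ⟨c, hc'⟩ := hmem
  refine isConj_iff.2 ⟨c, suToGU_injective ?_⟩
  rw [map_mul, map_mul, map_inv, hc', _root_.mul_inv_rev, mul_assoc u, hz.eq, ← hu]
  group

end Unitary

end CfsgLib.Spec53
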